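import Groth.Agent.L15.TFCurve.Setup
import Groth.Agent.L15.TFCurve.Combi
import Groth.Agent.L15.TFCurve.Limit

/-!
# Invariants of the torsion-free quotients as functions of the subset
-/

set_option autoImplicit false
set_option linter.style.haveILetI false
set_option backward.isDefEq.respectTransparency false
set_option backward.isDefEq.respectTransparency.types false

universe u

open CategoryTheory CategoryTheory.Limits AlgebraicGeometry TopologicalSpace

noncomputable section

namespace Groth.L15.TFCurve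

open Groth.L21.Mod (stalkF)
open Groth.L21.RR (SuppClosed)

variable {X : Scheme.{u}}

open Classical in
/-- The value of an invariant on the torsion-free quotient on a set, zero if there is none. -/
def qf (μ : X.Modules → ℤ) (M : X.Modules) (T : Set X) : ℤ :=
  if h : ∃ (G : X.Modules) (π : M ⟶ G), TFOne.IsQuotOn X M T G π then μ h.choose else 0

/-- The generic points in a set. -/
def gens (T : Set X) : Set X := {η | η ∈ genericPoints X ∧ η ∈ T}

theorem finite_gens [NoetherianSpace X] (T : Set X) : (gens T).Finite :=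
  (genericPoints.finite NoetherianSpace.finite_irreducibleComponents).subset fun _ h => h.1

theorem finite_subcurves [NoetherianSpace X] : {T : Set X | VecSt.IsSubcurve X T}.Finite := by
  refine ((NoetherianSpace.finite_irreducibleComponents (α := X)).finite_subsets.image Set.sUnion).subset ?_
  rintro T ⟨S, hS, -, rfl⟩
  exact ⟨S, hS, rfl⟩

theorem isClosed_of_isSubcurve [NoetherianSpace X] {T : Set X} (h : VecSt.IsSubcurve X T) : IsClosed T := by
  obtain ⟨S, hS, -, rfl⟩ := h
  exact isClosed_sUnion_components hS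

/-- A full closed subset contained in another with as many generic points is equal to it. -/
theorem eq_of_subset_of_ncard [NoetherianSpace X] {A B : Set X} (hA : VecSt.IsSubcurve X A)
    (hB : VecSt.IsSubcurve X B) (h : A ⊆ B) (hcard : (gens B).ncard ≤ (gens A).ncard) : A = B := by
  refine h.antisymm ((isFullSet_of_isSubcurve hB).subset_of_genericPoints (isClosed_of_isSubcurve hA) fun η hη hηB => ?_)
  have he : gens A = gens B := Set.eq_of_subset_of_ncard_le (fun x hx => ⟨hx.1, h hx.2⟩) hcard (finite_gens B)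
  exact (he.ge ⟨hη, hηB⟩).2

theorem ncard_gens_mono [NoetherianSpace X] {A B : Set X} (h : A ⊆ B) : (gens A).ncard ≤ (gens B).ncard :=
  Set.ncard_le_ncard (fun x hx => ⟨hx.1, h hx.2⟩) (finite_gens B)

variable [IsReduced X] [AlgebraicGeometry.IsNoetherian X] {M : X.Modules} (hM : TFOne.IsTF1 X M)
include hM

omit hM in
theorem qf_eq {μ : X.Modules → ℤ} (hμ : ∀ {A B : X.Modules}, (A ≅ B) → μ A = μ B) (hM : TFOne.IsTF1 X M) {T : Set X}
    {G : X.Modules} {π : M ⟶ G} (hG : TFOne.IsQuotOn X M T G π) : qf μ M T = μ G := by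
  have h : ∃ (G : X.Modules) (π : M ⟶ G), TFOne.IsQuotOn X M T G π := ⟨G, π, hG⟩
  rw [qf, dif_pos h]
  obtain ⟨π', hG'⟩ := h.choose_spec
  obtain ⟨e, -⟩ := quot_unique hM hG' hG
  exact hμ e

/-- An isomorphism onto the two complementary quotients gives one on every quotient. -/
theorem qf_split {μ : X.Modules → ℤ} (hμ : IsAdditive μ) {Y Y' : Set X} {A B : X.Modules} {pA : M ⟶ A}
    {pB : M ⟶ B} (hA : TFOne.IsQuotOn X M Y A pA) (hB : TFOne.IsQuotOn X M Y' B pB)
    (hiso : IsIso (biprod.lift pA pB)) {T W V : Set X} (hT : IsClosed T) (hTF : IsFullSet T) (hW : IsClosed W)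
    (hWF : IsFullSet W) (hV : IsClosed V) (hVF : IsFullSet V)
    (hWY : ∀ η ∈ genericPoints X, η ∈ W ↔ η ∈ Y ∧ η ∈ T) (hVY : ∀ η ∈ genericPoints X, η ∈ V ↔ η ∈ Y' ∧ η ∈ T)
    (hTU : ∀ η ∈ genericPoints X, η ∈ T → η ∈ Y ∨ η ∈ Y') :
    qf μ M T = qf μ M W + qf μ M V := by
  obtain ⟨GW, πW, hGW⟩ := exists_quot hM hW hWF
  obtain ⟨GV, πV, hGV⟩ := exists_quot hM hV hVF
  obtain ⟨a, ha⟩ := quot_factor hM hA hGW fun η hη h => ((hWY η hη).1 h).1
  obtain ⟨b, hb⟩ := quot_factor hM hB hGV fun η hη h => ((hVY η hη).1 h).1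
  haveI := hA.1
  haveI := hB.1
  haveI := hGW.1
  haveI := hGV.1
  haveI : Epi (pA ≫ a) := by rw [ha]; infer_instance
  haveI : Epi (pB ≫ b) := by rw [hb]; infer_instance
  haveI : Epi a := epi_of_epi pA a
  haveI : Epi b := epi_of_epi pB b
  haveI : Epi (biprod.map a b) := biprod.map_epi a b
  haveI := hiso
  have hl : biprod.lift pA pB ≫ biprod.map a b = biprod.lift πW πV := by
    apply biprod.hom_ext <;> simp [ha, hb]
  haveI : Epi (biprod.lift πW πV) := hl ▸ epi_comp _ _
  have hc : Coh.IsCoh (GW ⊞ GV) := Groth.L16.Devissage.isCoh_biprod hGW.2.1 hGV.2.1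
  have htf : TorSh.IsTorsionFree (GW ⊞ GV) := fun x => by
    haveI := hGW.2.2.1 x
    haveI := hGV.2.2.1 x
    have ht : ∀ m : (GW ⊞ GV).presheaf.stalk x, m =
        (stalkF X x).map (biprod.inl : GW ⟶ GW ⊞ GV) ((stalkF X x).map (biprod.fst : GW ⊞ GV ⟶ GW) m) +
        (stalkF X x).map (biprod.inr : GV ⟶ GW ⊞ GV) ((stalkF X x).map (biprod.snd : GW ⊞ GV ⟶ GV) m) := fun m => by
      rw [← stalkF_map_comp, ← stalkF_map_comp, ← stalkF_map_add, biprod.total]
      exact (stalkF_map_id x m).symm
    refine ⟨fun r hr m m' h => ?_⟩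
    have h' : ∀ {C : X.Modules} (φ : GW ⊞ GV ⟶ C), r • st φ x m = r • st φ x m' := fun φ =>
      (map_smul _ r m).symm.trans ((congrArg (st φ x) h).trans (map_smul _ r m'))
    have h1 : (stalkF X x).map (biprod.fst : GW ⊞ GV ⟶ GW) m = (stalkF X x).map (biprod.fst : GW ⊞ GV ⟶ GW) m' :=
      Module.IsTorsionFree.isSMulRegular (M := GW.presheaf.stalk x) hr (h' biprod.fst)
    have h2 : (stalkF X x).map (biprod.snd : GW ⊞ GV ⟶ GV) m = (stalkF X x).map (biprod.snd : GW ⊞ GV ⟶ GV) m' :=
      Module.IsTorsionFree.isSMulRegular (M := GV.presheaf.stalk x) hr (h' biprod.snd)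
    rw [ht m, ht m', h1, h2]
  have hq : TFOne.IsQuotOn X M T (GW ⊞ GV) (biprod.lift πW πV) := by
    refine ⟨inferInstance, hc, htf, support_eq_of_generic hc htf hT hTF fun η hη => ⟨fun hs => ?_, fun hηT hs => ?_⟩⟩
    · by_contra hηT
      refine hs (subsingleton_of_forall_eq 0 fun v => ?_)
      obtain ⟨m, rfl⟩ := stalk_surjective (biprod.lift πW πV) η v
      rw [biprod.lift_eq, stalkF_map_add, stalkF_map_comp, stalkF_map_comp,
        map_eq_zero_of_notMem hGW (fun h => hηT ((hWY η hη).1 h).2) πW m,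
        map_eq_zero_of_notMem hGV (fun h => hηT ((hVY η hη).1 h).2) πV m, map_zero, map_zero, add_zero]
    · rcases hTU η hη hηT with h | h
      · have hs' := @Function.Surjective.subsingleton _ _ _ hs (stalk_surjective (biprod.fst : GW ⊞ GV ⟶ GW) η)
        exact ((hGW.2.2.2.symm ▸ (hWY η hη).2 ⟨h, hηT⟩ : η ∈ CohB1.support GW)) hs'
      · have hs' := @Function.Surjective.subsingleton _ _ _ hs (stalk_surjective (biprod.snd : GW ⊞ GV ⟶ GV) η)
        exact ((hGV.2.2.2.symm ▸ (hVY η hη).2 ⟨h, hηT⟩ : η ∈ CohB1.support GV)) hs'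
  rw [qf_eq hμ.iso hM hq, qf_eq hμ.iso hM hGW, qf_eq hμ.iso hM hGV]
  exact hμ.add (ShortComplex.Splitting.ofHasBinaryBiproduct GW GV).shortExact hGW.2.1 hc hGV.2.1

variable (k : Type u) [Field k] [X.Over (Spec (CommRingCat.of k))] [IsProper (X ↘ Spec (CommRingCat.of k))]
  {E : X.Modules} {r : ℕ}

/-- A coherent quotient dominates a torsion-free one with the same generic support. -/
theorem exists_quot_le (hE : FlatMod.IsFinLocFreeOfRank r E)
    (hpure : ∀ C ∈ irreducibleComponents (X : Type u), topologicalKrullDim C = 1)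
    {A : X.Modules} (hA : Coh.IsCoh A) (p : M ⟶ A) [Epi p] :
    ∃ (Z : Set X) (G : X.Modules) (π : M ⟶ G), IsClosed Z ∧ IsFullSet Z ∧ TFOne.IsQuotOn X M Z G π ∧
      beta k E G ≤ beta k E A ∧ ∀ η ∈ genericPoints X, η ∈ Z ↔ η ∈ CohB1.support A := by
  let S := {C | C ∈ irreducibleComponents (X : Type u) ∧ ∀ η ∈ genericPoints X, closure {η} = C → η ∈ CohB1.support A}
  have hS : S ⊆ irreducibleComponents (X : Type u) := fun C hC => hC.1
  have hmem : ∀ η ∈ genericPoints X, η ∈ ⋃₀ S ↔ η ∈ CohB1.support A := fun η hη => by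
    rw [mem_sUnion_components (P := fun C => ∀ η ∈ genericPoints X, closure {η} = C → η ∈ CohB1.support A) hη]
    refine ⟨fun h => h η hη rfl, fun h η' hη' he => ?_⟩
    rwa [eq_of_specializes hη (specializes_iff_mem_closure.2 (he.symm ▸ subset_closure rfl : η ∈ closure {η'}))]
  obtain ⟨G, π, hG⟩ := exists_quot hM (isClosed_sUnion_components hS) (isFullSet_sUnion hS)
  haveI : Coh.IsQCoh G := hG.2.1.1
  obtain ⟨a, ha⟩ := exists_desc hG.2.2.1 p π fun η hη m hm => by
    by_cases hZ : η ∈ ⋃₀ S
    · by_cases hm0 : m = 0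
      · subst hm0
        exact map_zero _
      · exfalso
        refine (hmem η hη).1 hZ (subsingleton_of_forall_eq 0 fun v => ?_)
        obtain ⟨m', rfl⟩ := stalk_surjective p η v
        obtain ⟨c, rfl⟩ := exists_smul_eq hM hη hm0 m'
        rw [stalkF_map_smul]
        exact (congrArg (fun z : A.presheaf.stalk η => c • z) hm).trans (smul_zero c)
    · exact map_eq_zero_of_notMem hG hZ π m
  haveI := hG.1
  haveI : Epi (p ≫ a) := by rw [ha]; infer_instance
  haveI : Epi a := epi_of_epi p a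
  have hK : Coh.IsCoh (kernel a) := Groth.L16.CohSupport.isCoh_kernel hA a
  have hs : SuppClosed (kernel a) := fun x hx => by
    have hη := mem_genericPoints_of_not_isClosed hpure hx
    refine subsingleton_of_forall_eq 0 fun z => stalk_injective (kernel.ι a) x ?_
    refine Eq.trans ?_ (map_zero _).symm
    by_cases hZ : x ∈ ⋃₀ S
    · obtain ⟨m, hm⟩ := stalk_surjective p x ((stalkF X x).map (kernel.ι a) z)
      have h0 : (stalkF X x).map π m = 0 := by
        rw [← ha, stalkF_map_comp, hm]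
        exact stalk_comp_eq_zero (kernel.condition a) x z
      rw [← hm, quot_injective hM hG hη hZ h0]
      exact map_zero _
    · have hz : Subsingleton (A.presheaf.stalk x) := not_not.1 fun h => hZ ((hmem x hη).2 h)
      exact @Subsingleton.elim _ hz _ _
  refine ⟨⋃₀ S, G, π, isClosed_sUnion_components hS, isFullSet_sUnion hS, hG, ?_, hmem⟩
  have h1 := (isAdditive_beta k hE).add (ShortComplex.ShortExact.mk (ShortComplex.exact_kernel a) :
    (ShortComplex.mk (kernel.ι a) a (kernel.condition a)).ShortExact) hK hA hG.2.1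
  dsimp only at h1
  have h2 := beta_nonneg_of_suppClosed k hE hK hs
  omega

/-- Coherent quotients of semistable modules have non-negative invariant. -/
theorem beta_nonneg_of_quot (hE : FlatMod.IsFinLocFreeOfRank r E)
    (hpure : ∀ C ∈ irreducibleComponents (X : Type u), topologicalKrullDim C = 1)
    (hss : TFOne.IsSemistable X k (X ↘ Spec (CommRingCat.of k)) M E r) (hM0 : beta k E M = 0)
    {A : X.Modules} (hA : Coh.IsCoh A) (p : M ⟶ A) [Epi p] : 0 ≤ beta k E A := by
  obtain ⟨Z, G, π, hZ, hZF, hG, hle, -⟩ := exists_quot_le hM k hE hpure hA p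
  refine le_trans ?_ hle
  by_cases hne : Z.Nonempty
  · exact nonneg_of_isSemistable hpure hE hss hM0 hZ (hZF.isSubcurve hZ hne) hG
  · exact (beta_of_isZero k hE (quot_isZero hG (Set.not_nonempty_iff_eq_empty.1 hne))).ge

end Groth.L15.TFCurve
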