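import Groth.Agent.L15.TFCurve.Red.StalkLength
import Groth.Agent.L15.TFCurve.Red.QFun
import Groth.Agent.L22.CurveDeg.Det.Points

/-!
# A bound on the Euler characteristics of quotients on complementary subcurves
-/

set_option autoImplicit false
set_option linter.style.haveILetI false
set_option backward.isDefEq.respectTransparency false
set_option backward.isDefEq.respectTransparency.types false

universe u

open CategoryTheory CategoryTheory.Limits AlgebraicGeometry TopologicalSpace

noncomputable section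

namespace Groth.L15.TFCurve

open Groth.L21.Mod (stalkF)
open Groth.L21.RR (SuppClosed)
open Groth.L16.CohSupport (len)

variable {X : Scheme.{u}}

/-- The complementary subcurve. -/
def cpl (T : Set X) : Set X := ⋃₀ {C | C ∈ irreducibleComponents (X : Type u) ∧ ¬ C ⊆ T}

theorem isClosed_cpl [NoetherianSpace X] (T : Set X) : IsClosed (cpl T) := isClosed_sUnion_components fun _ h => h.1

theorem isFullSet_cpl (T : Set X) : IsFullSet (cpl T) := isFullSet_sUnion fun _ h => h.1

theorem mem_cpl {T : Set X} (hT : IsClosed T) {η : X} (hη : η ∈ genericPoints X) : η ∈ cpl T ↔ η ∉ T :=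
  mem_compl_components hT hη

variable [IsReduced X] [AlgebraicGeometry.IsNoetherian X]

/-- An element killing one side, invertible at the generic points of the other. -/
theorem exists_killer (x : X) {p : X → Prop} :
    ∃ a : X.presheaf.stalk x, ∀ η ∈ genericPoints X, ∀ h : η ⤳ x,
      (p η → IsUnit (X.presheaf.stalkSpecializes h a)) ∧ (¬ p η → X.presheaf.stalkSpecializes h a = 0) := by
  let O := X.presheaf.stalk x
  have hfin : {P : PrimeSpectrum O | X.fromSpecStalk x P ∈ genericPoints X}.Finite :=
    (genericPoints.finite NoetherianSpace.finite_irreducibleComponents).preimage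
      (fun _ _ _ _ h => (X.fromSpecStalk x).isEmbedding.injective h)
  let J : Ideal O := sInf (PrimeSpectrum.asIdeal '' {P | X.fromSpecStalk x P ∈ genericPoints X ∧ ¬ p (X.fromSpecStalk x P)})
  have hbad : ∀ P ∈ {P : PrimeSpectrum O | X.fromSpecStalk x P ∈ genericPoints X ∧ p (X.fromSpecStalk x P)},
      ¬ J ≤ P.asIdeal := by
    rintro P ⟨hP, hpP⟩ hle
    let S := {P : PrimeSpectrum O | X.fromSpecStalk x P ∈ genericPoints X ∧ ¬ p (X.fromSpecStalk x P)}
    have hS : S.Finite := hfin.subset fun P h => h.1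
    have hJ : J = hS.toFinset.inf PrimeSpectrum.asIdeal := by
      rw [Finset.inf_eq_iInf]
      simp only [J, sInf_image, Set.Finite.mem_toFinset]
      rfl
    obtain ⟨Q, hQ, hQP⟩ := (Ideal.IsPrime.inf_le' P.2).1 (hJ ▸ hle)
    rw [Set.Finite.mem_toFinset] at hQ
    have e := eq_of_specializes hP
      (((PrimeSpectrum.le_iff_specializes Q P).1 hQP).map (X.fromSpecStalk x).continuous)
    exact hQ.2 (e ▸ hpP)
  obtain ⟨a, haJ, ha⟩ : ∃ a ∈ J, ∀ P ∈ {P : PrimeSpectrum O | X.fromSpecStalk x P ∈ genericPoints X ∧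
      p (X.fromSpecStalk x P)}, a ∉ P.asIdeal := by
    by_contra! hall
    obtain ⟨P, hP, hle⟩ := (Ideal.subset_union_prime_finite (hfin.subset fun P h => h.1) (f := PrimeSpectrum.asIdeal)
      (IsLocalRing.closedPoint O) (IsLocalRing.closedPoint O) (fun P _ _ _ => P.2)).1
      (show (J : Set O) ⊆ ⋃ P ∈ {P : PrimeSpectrum O | X.fromSpecStalk x P ∈ genericPoints X ∧
        p (X.fromSpecStalk x P)}, (P.asIdeal : Set O) from fun a ha =>
          let ⟨P, hP, haP⟩ := hall a ha; Set.mem_iUnion₂.2 ⟨P, hP, haP⟩)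
    exact hbad P hP hle
  refine ⟨a, fun η hη h => ?_⟩
  obtain ⟨Q, rfl⟩ : η ∈ Set.range (X.fromSpecStalk x) := by rw [Scheme.range_fromSpecStalk]; exact h
  refine ⟨fun hp => (isUnit_specializes_iff Q h a).2 (ha Q ⟨hη, hp⟩), fun hp => ?_⟩
  letI := (isField_stalk hη).toField
  by_contra h1
  exact (isUnit_specializes_iff Q h a).1 (isUnit_iff_ne_zero.2 h1) (Ideal.mem_sInf.1 haJ ⟨Q, ⟨hη, hp⟩, rfl⟩)

/-- The element for a pair of complementary sets. -/
theorem exists_splitter (x : X) {T : Set X} :
    ∃ a b : X.presheaf.stalk x, IsRegular (a + b) ∧ ∀ η ∈ genericPoints X, ∀ h : η ⤳ x,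
      (η ∉ T → X.presheaf.stalkSpecializes h a = 0) ∧ (η ∈ T → X.presheaf.stalkSpecializes h b = 0) := by
  obtain ⟨a, ha⟩ := exists_killer x (p := fun η => η ∈ T)
  obtain ⟨b, hb⟩ := exists_killer x (p := fun η => η ∉ T)
  refine ⟨a, b, ?_, fun η hη h => ⟨(ha η hη h).2, fun hT => (hb η hη h).2 (not_not.2 hT)⟩⟩
  rw [Commute.isRegular_iff (Commute.all _)]
  intro u v huv
  have h : u - v ∈ sInf (minimalPrimes (X.presheaf.stalk x)) := Ideal.mem_sInf.2 fun {P} hP => by
    let P' : PrimeSpectrum (X.presheaf.stalk x) := ⟨P, hP.isPrime⟩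
    have hsp := fromSpecStalk_specializes x P'
    have hη : X.fromSpecStalk x P' ∈ genericPoints X := by
      refine mem_genericPoints_of_forall fun y hy => ?_
      obtain ⟨Q, rfl⟩ : y ∈ Set.range (X.fromSpecStalk x) := by
        rw [Scheme.range_fromSpecStalk]; exact hy.trans hsp
      let Q' : PrimeSpectrum (X.presheaf.stalk x) := Q
      have hle : Q'.asIdeal ≤ P := (PrimeSpectrum.le_iff_specializes Q' P').2
        ((X.fromSpecStalk x).isEmbedding.isInducing.specializes_iff.1 hy)
      have heq : Q' = P' := PrimeSpectrum.ext (le_antisymm hle (hP.2 ⟨Q'.2, bot_le⟩ hle))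
      exact congrArg (X.fromSpecStalk x) heq
    refine (hP.isPrime.mem_or_mem (show (a + b) * (u - v) ∈ P by
      replace huv : (a + b) * u = (a + b) * v := huv
      rw [mul_sub, huv, sub_self]; exact P.zero_mem)).resolve_left ?_
    refine (isUnit_specializes_iff P' hsp (a + b)).1 ?_
    rw [map_add]
    by_cases hT : X.fromSpecStalk x P' ∈ T
    · rw [(hb _ hη hsp).2 (not_not.2 hT), add_zero]
      exact (ha _ hη hsp).1 hT
    · rw [(ha _ hη hsp).2 hT, zero_add]
      exact (hb _ hη hsp).1 hT
  rw [minimalPrimes, Ideal.sInf_minimalPrimes] at h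
  exact sub_eq_zero.1 (IsReduced.eq_zero (u - v) h)

variable (k : Type u) [Field k] [X.Over (Spec (CommRingCat.of k))] [IsProper (X ↘ Spec (CommRingCat.of k))]
  (hpure : ∀ C ∈ irreducibleComponents (X : Type u), topologicalKrullDim C = 1)
include hpure

/-- The Euler characteristics of complementary quotients are bounded above. -/
theorem exists_bound {T : Set X} (hT : IsClosed T) (hTF : IsFullSet T) :
    ∃ N : ℤ, ∀ M : X.Modules, TFOne.IsTF1 X M →
      qf (Curv2.euler k X) M T + qf (Curv2.euler k X) M (cpl T) ≤ Curv2.euler k X M + N := by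
  classical
  let T' := cpl T
  have hT' : IsClosed T' := isClosed_cpl T
  have hclosed : ∀ x ∈ T ∩ T', IsClosed ({x} : Set X) := fun x hx => by
    by_contra h
    exact (mem_cpl hT (mem_genericPoints_of_not_isClosed hpure h)).1 hx.2 hx.1
  have hfin : (T ∩ T').Finite := by
    obtain ⟨S, hSf, hSc, hSi, hSu⟩ := NoetherianSpace.exists_finite_set_isClosed_irreducible (hT.inter hT')
    rw [hSu]
    refine hSf.sUnion fun t ht => ?_
    obtain ⟨g, hg⟩ := QuasiSober.sober (hSi t ht) (hSc t ht)
    rw [← hg.def, (hclosed g (hSu ▸ ⟨t, ht, hg.mem⟩)).closure_eq]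
    exact Set.finite_singleton g
  have hab := fun x : X => exists_splitter x (T := T)
  choose a b hreg hab using hab
  refine ⟨∑ x ∈ hfin.toFinset, ((Module.length (X.presheaf.stalk x)
    (X.presheaf.stalk x ⧸ Ideal.span {a x + b x})).toNat : ℤ) * |Groth.L22.CurveDeg.Det.ptEuler k x|, fun M hM => ?_⟩
  obtain ⟨A, pA, hA⟩ := exists_quot hM hT hTF
  obtain ⟨B, pB, hB⟩ := exists_quot hM hT' (isFullSet_cpl T)
  have hμ := isAdditive_euler (X := X) k
  rw [qf_eq hμ.iso hM hA, qf_eq hμ.iso hM hB]
  haveI := hA.1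
  haveI := hB.1
  haveI : Coh.IsQCoh A := hA.2.1.1
  haveI : Coh.IsQCoh B := hB.2.1.1
  haveI : Coh.IsQCoh M := hM.1.1
  let l := biprod.lift pA pB
  haveI : Mono l := by
    refine Preadditive.mono_of_kernel_zero (hom_eq_zero hM.2.1 _ fun η hη z => ?_)
    by_cases hy : η ∈ T
    · refine quot_injective hM hA hη hy ?_
      rw [← stalkF_map_comp, show kernel.ι l ≫ pA = 0 by
        rw [← biprod.lift_fst pA pB, ← Category.assoc, kernel.condition, zero_comp]]
      exact stalkF_map_zero η z
    · refine quot_injective hM hB hη ((mem_cpl hT hη).2 hy) ?_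
      rw [← stalkF_map_comp, show kernel.ι l ≫ pB = 0 by
        rw [← biprod.lift_snd pA pB, ← Category.assoc, kernel.condition, zero_comp]]
      exact stalkF_map_zero η z
  have hAB : Coh.IsCoh (A ⊞ B) := Groth.L16.Devissage.isCoh_biprod hA.2.1 hB.2.1
  let Q := cokernel l
  have hQ : Coh.IsCoh Q := (Groth.L16.CohKernel.isCoh_kernel_cokernel hM.1 hAB l).2
  have hdec : ∀ (x : X) (v : (A ⊞ B).presheaf.stalk x), v = st (biprod.inl : A ⟶ A ⊞ B) x (st biprod.fst x v) +
      st (biprod.inr : B ⟶ A ⊞ B) x (st biprod.snd x v) := fun x v => by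
    simp only [st_apply]
    rw [← stalkF_map_comp, ← stalkF_map_comp, ← stalkF_map_add, biprod.total]
    exact (stalkF_map_id x v).symm
  have hrel : ∀ (x : X) (m : M.presheaf.stalk x),
      st (cokernel.π l) x (st biprod.inl x (st pA x m)) + st (cokernel.π l) x (st biprod.inr x (st pB x m)) = 0 := by
    intro x m
    have h1 : st (cokernel.π l) x (st l x m) = 0 := stalk_comp_eq_zero (cokernel.condition l) x m
    have h2 : st l x m = st biprod.inl x (st pA x m) + st biprod.inr x (st pB x m) := by
      have e1 : st biprod.fst x (st l x m) = st pA x m := by rw [← st_comp, biprod.lift_fst]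
      have e2 : st biprod.snd x (st l x m) = st pB x m := by rw [← st_comp, biprod.lift_snd]
      exact (hdec x (st l x m)).trans (by rw [e1, e2])
    rw [h2, map_add] at h1
    exact h1
  have hsupp : CohB1.support Q ⊆ (hfin.toFinset : Set X) := fun x hx => by
    rw [Set.Finite.coe_toFinset]
    refine ⟨by_contra fun h => hx ?_, by_contra fun h => hx ?_⟩
    all_goals refine subsingleton_of_forall_eq 0 fun q => ?_
    all_goals obtain ⟨v, rfl⟩ := st_surjective (cokernel.π l) x q
    all_goals rw [hdec x v, map_add]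
    · have hz : Subsingleton (A.presheaf.stalk x) := not_not.1 fun h' => h (hA.2.2.2 ▸ h')
      obtain ⟨m, hm⟩ := st_surjective pB x (st biprod.snd x v)
      have := hrel x m
      rw [@Subsingleton.elim _ hz (st pA x m) (st biprod.fst x v), hm] at this
      exact this
    · have hz : Subsingleton (B.presheaf.stalk x) := not_not.1 fun h' => h (hB.2.2.2 ▸ h')
      obtain ⟨m, hm⟩ := st_surjective pA x (st biprod.fst x v)
      have := hrel x m
      rw [@Subsingleton.elim _ hz (st pB x m) (st biprod.snd x v), hm] at this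
      exact this
  have hlen : ∀ x, len x Q ≤ Module.length (X.presheaf.stalk x) (X.presheaf.stalk x ⧸ Ideal.span {a x + b x}) := by
    intro x
    rw [← length_stalk_quotient hpure hM x (hreg x)]
    let ψ : M.presheaf.stalk x →ₗ[X.presheaf.stalk x] Q.presheaf.stalk x :=
      (st (cokernel.π l) x).comp ((st (biprod.inl : A ⟶ A ⊞ B) x).comp (st pA x))
    have hB0 : ∀ β : B.presheaf.stalk x, a x • β = 0 := fun β => stalk_eq_zero B hB.2.2.1 x _ fun η hη h => by
      refine (stalkSpecializes_smul B h _ _).trans ?_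
      by_cases hηT : η ∈ T
      · exact @Subsingleton.elim _ (subsingleton_of_notMem hB fun h' => (mem_cpl hT hη).1 h' hηT) _ _
      · rw [(hab x η hη h).1 hηT]
        exact zero_smul _ _
    have hA0 : ∀ α : A.presheaf.stalk x, b x • α = 0 := fun α => stalk_eq_zero A hA.2.2.1 x _ fun η hη h => by
      refine (stalkSpecializes_smul A h _ _).trans ?_
      by_cases hηT : η ∈ T
      · rw [(hab x η hη h).2 hηT]
        exact zero_smul _ _
      · exact @Subsingleton.elim _ (subsingleton_of_notMem hA hηT) _ _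
    have hker : LinearMap.range (LinearMap.lsmul _ (M.presheaf.stalk x) (a x + b x)) ≤ LinearMap.ker ψ := by
      rintro _ ⟨m, rfl⟩
      show ψ ((a x + b x) • m) = 0
      have h1 := hrel x (a x • m)
      rw [map_smul (st pB x), hB0, map_zero, map_zero, add_zero] at h1
      have h2 : b x • st pA x m = 0 := hA0 _
      show st (cokernel.π l) x (st biprod.inl x (st pA x ((a x + b x) • m))) = 0
      have h3 : st pA x ((a x + b x) • m) = st pA x (a x • m) := by
        rw [add_smul, map_add, map_smul (st pA x) (b x), h2, add_zero]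
      rw [h3]
      exact h1
    refine Module.length_le_of_surjective (Submodule.liftQ _ ψ hker) fun q => ?_
    obtain ⟨v, rfl⟩ := st_surjective (cokernel.π l) x q
    obtain ⟨m₁, hm₁⟩ := st_surjective pA x (st biprod.fst x v)
    obtain ⟨m₂, hm₂⟩ := st_surjective pB x (st biprod.snd x v)
    refine ⟨Submodule.Quotient.mk (m₁ - m₂), ?_⟩
    show st (cokernel.π l) x (st biprod.inl x (st pA x (m₁ - m₂))) = _
    rw [hdec x v, map_sub, map_sub, map_sub, map_add, ← hm₁, ← hm₂, eq_neg_of_add_eq_zero_right (hrel x m₂)]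
    exact sub_eq_add_neg _ _
  have he : Curv2.euler k X Q ≤ ∑ x ∈ hfin.toFinset, ((Module.length (X.presheaf.stalk x)
      (X.presheaf.stalk x ⧸ Ideal.span {a x + b x})).toNat : ℤ) * |Groth.L22.CurveDeg.Det.ptEuler k x| := by
    rw [Groth.L22.CurveDeg.Det.euler_eq_sum_points k hfin.toFinset (fun y hy => hclosed y (hfin.mem_toFinset.1 hy)) hQ hsupp]
    refine Finset.sum_le_sum fun x _ => ?_
    refine (mul_le_mul_of_nonneg_left (le_abs_self _) (Nat.cast_nonneg _)).trans
      (mul_le_mul_of_nonneg_right ?_ (abs_nonneg _))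
    exact_mod_cast ENat.toNat_le_toNat (hlen x) (length_quotient_ne_top hpure (hreg x))
  have e1 := hμ.add (ShortComplex.ShortExact.mk (ShortComplex.exact_cokernel l) :
    (ShortComplex.mk l (cokernel.π l) (cokernel.condition l)).ShortExact) hM.1 hAB hQ
  have e2 := hμ.add (ShortComplex.Splitting.ofHasBinaryBiproduct A B).shortExact hA.2.1 hAB hB.2.1
  dsimp only at e1 e2
  show _ ≤ _
  have : Curv2.euler k X (cokernel l) = Curv2.euler k X Q := rfl
  omega

end Groth.L15.TFCurve
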