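import Groth.Agent.L15.TFCurve.Red.Bound
import Groth.Agent.L15.TFCurve.BC.Curve
import Groth.Agent.S18844

/-!
# Decomposable modules and the potential of a module
-/

set_option autoImplicit false
set_option linter.style.haveILetI false
set_option backward.isDefEq.respectTransparency false
set_option backward.isDefEq.respectTransparency.types false

universe u

open CategoryTheory CategoryTheory.Limits AlgebraicGeometry TopologicalSpace

noncomputable section

namespace Groth.L15.TFCurve

open Groth.L21.Mod (stalkF)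
open Groth.L21.RR (SuppClosed)

variable {X : Scheme.{u}}

/-- The module is decomposed along a subset and its complement. -/
def IsDec (M : X.Modules) (Y : Set X) : Prop :=
  ∃ (A B : X.Modules) (pA : M ⟶ A) (pB : M ⟶ B),
    TFOne.IsQuotOn X M Y A pA ∧ TFOne.IsQuotOn X M (cpl Y) B pB ∧ IsIso (biprod.lift pA pB)

/-- The proper subcurves. -/
def proper (X : Scheme.{u}) : Set (Set X) := {T | VecSt.IsSubcurve X T ∧ T ≠ Set.univ}

section

variable [AlgebraicGeometry.IsNoetherian X]

theorem finite_proper : (proper X).Finite := (finite_subcurves (X := X)).subset fun _ h => h.1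

theorem cpl_cpl {T : Set X} (hT : VecSt.IsSubcurve X T) : cpl (cpl T) = T := by
  have hTc := isClosed_of_isSubcurve hT
  refine subset_antisymm ((isFullSet_cpl _).subset_of_genericPoints hTc fun η hη h => ?_)
    ((isFullSet_of_isSubcurve hT).subset_of_genericPoints (isClosed_cpl _) fun η hη h => ?_)
  · rw [mem_cpl (isClosed_cpl T) hη, mem_cpl hTc hη, not_not] at h
    exact h
  · rw [mem_cpl (isClosed_cpl T) hη, mem_cpl hTc hη, not_not]
    exact h

theorem cpl_mem_proper {T : Set X} (hT : T ∈ proper X) : cpl T ∈ proper X := by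
  have hTc := isClosed_of_isSubcurve hT.1
  refine ⟨(isFullSet_cpl T).isSubcurve (isClosed_cpl T) ?_, fun h => ?_⟩
  · by_contra hne
    refine hT.2 (Set.eq_univ_of_univ_subset (isFullSet_univ.subset_of_genericPoints hTc fun η hη _ => ?_))
    by_contra h
    exact hne ⟨η, (mem_cpl hTc hη).2 h⟩
  · obtain ⟨η, hη, hηT⟩ := Groth.L15.TFCurve.IsSubcurve.exists_genericPoint hT.1
    exact (mem_cpl hTc hη).1 (h ▸ trivial) hηT

/-- The sum of an invariant over all proper subcurves. -/
def potential (μ : X.Modules → ℤ) (M : X.Modules) : ℤ := ∑ T ∈ (finite_proper (X := X)).toFinset, qf μ M T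

end

variable [IsReduced X] {k : Type u} [Field k] [X.Over (Spec (CommRingCat.of k))] [IsProper (X ↘ Spec (CommRingCat.of k))]
  (hpure : ∀ C ∈ irreducibleComponents (X : Type u), topologicalKrullDim C = 1)

include hpure in
theorem isDec_cpl [AlgebraicGeometry.IsNoetherian X] {M : X.Modules} {Y : Set X} (hY : VecSt.IsSubcurve X Y)
    (h : IsDec M Y) : IsDec M (cpl Y) := by
  obtain ⟨A, B, pA, pB, hA, hB, hiso⟩ := h
  refine ⟨B, A, pB, pA, hB, (cpl_cpl hY).symm ▸ hA, ?_⟩
  have e : biprod.lift pB pA = biprod.lift pA pB ≫ (biprod.braiding A B).hom := by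
    apply biprod.hom_ext <;> simp
  rw [e]
  infer_instance

/-- A module which is not simple is decomposed. -/
theorem exists_isDec [Nonempty X] (hgi : BC.GICmp k (X ↘ Spec (CommRingCat.of k)))
    (hpure : ∀ C ∈ irreducibleComponents (X : Type u), topologicalKrullDim C = 1)
    {M : X.Modules} (hM : TFOne.IsTF1 X M)
    (h : ¬ TFOne.IsSimple X k (X ↘ Spec (CommRingCat.of k)) M) : ∃ Y ∈ proper X, IsDec M Y := by
  haveI := Groth.L21.RR.isNoetherian_of_proper (X := X) k
  haveI := BC.geometricallyReduced (q := X ↘ Spec (CommRingCat.of k)) hgi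
  rw [Groth.Agent.S18844.result k X hpure hgi M hM, not_not] at h
  obtain ⟨Y, Z, hY, hZ, GY, GZ, πY, πZ, hYs, hZs, hYu, hZu, hGY, hGZ, hiso⟩ := h
  haveI := hiso
  have hl1 : ∀ (η : X) (m : M.presheaf.stalk η),
      st (biprod.fst : GY ⊞ GZ ⟶ GY) η (st (biprod.lift πY πZ) η m) = st πY η m := fun η m => by
    rw [← st_comp, biprod.lift_fst]
  have hl2 : ∀ (η : X) (m : M.presheaf.stalk η),
      st (biprod.snd : GY ⊞ GZ ⟶ GZ) η (st (biprod.lift πY πZ) η m) = st πZ η m := fun η m => by
    rw [← st_comp, biprod.lift_snd]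
  have hmem : ∀ η ∈ genericPoints X, η ∈ Z ↔ η ∉ Y := fun η hη => by
    refine ⟨fun hηZ hηY => ?_, fun hηY => by_contra fun hηZ => ?_⟩
    · haveI := hGY.1
      obtain ⟨α, hα⟩ : ∃ α : GY.presheaf.stalk η, α ≠ 0 := by
        by_contra! hall
        exact (hGY.2.2.2.symm ▸ hηY : η ∈ CohB1.support GY) (subsingleton_of_forall_eq 0 hall)
      obtain ⟨m, hm⟩ := st_surjective (biprod.lift πY πZ) η (st (biprod.inl : GY ⟶ GY ⊞ GZ) η α)
      have h1 : st πY η m = α := by
        rw [← hl1, hm, ← st_comp, biprod.inl_fst]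
        exact st_id GY η α
      have h2 : st πZ η m = 0 := by
        rw [← hl2, hm, ← st_comp, biprod.inl_snd]
        exact st_zero η α
      rw [quot_injective hM hGZ hη hηZ h2] at h1
      exact hα (h1.symm.trans (map_zero _))
    · obtain ⟨m, hm⟩ := exists_ne_zero hM hη
      refine hm (st_injective (biprod.lift πY πZ) η (Eq.trans ?_ (map_zero _).symm))
      have hd : ∀ v : (GY ⊞ GZ).presheaf.stalk η, v = st (biprod.inl : GY ⟶ GY ⊞ GZ) η (st biprod.fst η v) +
          st (biprod.inr : GZ ⟶ GY ⊞ GZ) η (st biprod.snd η v) := fun v => by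
        simp only [st_apply]
        rw [← stalkF_map_comp, ← stalkF_map_comp, ← stalkF_map_add, biprod.total]
        exact (stalkF_map_id η v).symm
      refine (hd _).trans ?_
      rw [hl1, hl2, st_apply πY, st_apply πZ, map_eq_zero_of_notMem hGY hηY πY m,
        map_eq_zero_of_notMem hGZ hηZ πZ m, map_zero, map_zero, add_zero]
  have he : Z = cpl Y := subset_antisymm
    ((isFullSet_of_isSubcurve hZs).subset_of_genericPoints (isClosed_cpl Y) fun η hη h =>
      (mem_cpl hY hη).2 ((hmem η hη).1 h))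
    ((isFullSet_cpl Y).subset_of_genericPoints hZ fun η hη h => (hmem η hη).2 ((mem_cpl hY hη).1 h))
  subst he
  exact ⟨Y, ⟨hYs, hYu⟩, GY, GZ, πY, πZ, hGY, hGZ, hiso⟩

variable [AlgebraicGeometry.IsNoetherian X]

include hpure in
/-- Along a decomposed module the potential does not decrease, and stays equal only if the modification is decomposed. -/
theorem potential_step {M M' GY : X.Modules} (hM : TFOne.IsTF1 X M) {Y : Set X} (hY : Y ∈ proper X) {πY : M ⟶ GY}
    (hGY : TFOne.IsQuotOn X M Y GY πY) (D : Modif πY M') (hd : IsDec M Y) :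
    potential (Curv2.euler k X) M ≤ potential (Curv2.euler k X) M' ∧
      (potential (Curv2.euler k X) M' = potential (Curv2.euler k X) M → IsDec M' Y) := by
  classical
  obtain ⟨A, B, pA, pB, hA, hB, hiso⟩ := hd
  have hYc := isClosed_of_isSubcurve hY.1
  have hYF := isFullSet_of_isSubcurve hY.1
  have hM' := D.isTF1 hM hGY
  have hμ := isAdditive_euler (X := X) k
  have key : ∀ T ∈ proper X, ∃ (G' GW K' Tf : X.Modules) (π : M' ⟶ G') (πW : M ⟶ GW),
      TFOne.IsQuotOn X M' T G' π ∧ TFOne.IsQuotOn X M (⋃₀ {C | C ∈ irreducibleComponents (X : Type u) ∧ C ⊆ Y ∩ T}) GW πW ∧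
      Coh.IsCoh Tf ∧ SuppClosed Tf ∧
      qf (Curv2.euler k X) M' T = qf (Curv2.euler k X) M T + Curv2.euler k X Tf ∧
      (∀ {μ : X.Modules → ℤ}, IsAdditive μ → μ G' = μ GW + μ K' + μ Tf) ∧ (T ⊆ Y → IsZero K') := fun T hT => by
    have hTc := isClosed_of_isSubcurve hT.1
    have hTF := isFullSet_of_isSubcurve hT.1
    let SW := {C | C ∈ irreducibleComponents (X : Type u) ∧ C ⊆ Y ∩ T}
    let SV := {C | C ∈ irreducibleComponents (X : Type u) ∧ C ⊆ T ∧ ¬ C ⊆ Y}
    have hSW : SW ⊆ irreducibleComponents (X : Type u) := fun C h => h.1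
    have hSV : SV ⊆ irreducibleComponents (X : Type u) := fun C h => h.1
    obtain ⟨G', π, hG'⟩ := exists_quot hM' hTc hTF
    obtain ⟨GW, πW, hGW⟩ := exists_quot hM (isClosed_sUnion_components hSW) (isFullSet_sUnion hSW)
    obtain ⟨GU, πU, hGU⟩ := exists_quot hM (hYc.union hTc) (hYF.union hTF)
    obtain ⟨K', Tf, q, hK', hTfc, hTfs, -, hμs⟩ := D.exists_decomp hM hGY hpure hG' hGW hGU
      (fun η hη => mem_inter_components hYc hTc hη) (isClosed_sUnion_components hSW) (isFullSet_sUnion hSW)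
      (fun η _ => Iff.rfl) (fun η hη => mem_diff_components hYc hTc hη)
      (isClosed_sUnion_components hSV) (isFullSet_sUnion hSV)
    have s1 := qf_split hM hμ hA hB hiso hTc hTF (isClosed_sUnion_components hSW) (isFullSet_sUnion hSW)
      (isClosed_sUnion_components hSV) (isFullSet_sUnion hSV)
      (fun η hη => mem_inter_components hYc hTc hη)
      (fun η hη => (mem_diff_components hYc hTc hη).trans (and_congr_left' (mem_cpl hYc hη).symm))
      (fun η hη _ => (em (η ∈ Y)).imp id (mem_cpl hYc hη).2)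
    have s2 := qf_split hM hμ hA hB hiso (hYc.union hTc) (hYF.union hTF) hYc hYF
      (isClosed_sUnion_components hSV) (isFullSet_sUnion hSV)
      (fun η _ => ⟨fun h => ⟨h, Or.inl h⟩, fun h => h.1⟩)
      (fun η hη => by
        rw [mem_diff_components hYc hTc hη, mem_cpl hYc hη]
        exact ⟨fun h => ⟨h.1, Or.inr h.2⟩, fun h => ⟨h.1, h.2.resolve_left h.1⟩⟩)
      (fun η hη _ => (em (η ∈ Y)).imp id (mem_cpl hYc hη).2)
    obtain ⟨a1, a2⟩ := hμs hμ
    rw [qf_eq hμ.iso hM hGU, qf_eq hμ.iso hM hGY] at s2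
    rw [qf_eq hμ.iso hM hGW] at s1
    refine ⟨G', GW, K', Tf, π, πW, hG', hGW, hTfc, hTfs, ?_, fun hμ' => (hμs hμ').1, fun hTY => ?_⟩
    · rw [qf_eq hμ.iso hM' hG']
      omega
    · refine quot_isZero hK' (Set.eq_empty_of_forall_notMem ?_)
      rintro z ⟨C, ⟨-, hCT, hCY⟩, -⟩
      exact hCY (hCT.trans hTY)
  choose G' GW K' Tf π πW hG' hGW hTfc hTfs hq hμs hzero using key
  have hle : ∀ T ∈ (finite_proper (X := X)).toFinset, qf (Curv2.euler k X) M T ≤ qf (Curv2.euler k X) M' T :=
    fun T hT => by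
      have hT' := (finite_proper (X := X)).mem_toFinset.1 hT
      rw [hq T hT']
      exact le_add_of_nonneg_right (euler_nonneg_of_suppClosed k (hTfs T hT'))
  refine ⟨Finset.sum_le_sum hle, fun heq => ?_⟩
  have h1 := (Finset.sum_eq_sum_iff_of_le hle).1 heq.symm Y ((finite_proper (X := X)).mem_toFinset.2 hY)
  rw [hq Y hY] at h1
  have hz : IsZero (Tf Y hY) := isZero_of_euler_eq_zero k (hTfc Y hY) (hTfs Y hY) (by omega)
  -- the criterion
  have hE : FlatMod.IsFinLocFreeOfRank 1 (Coh.structureModule X) :=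
    Groth.L19.ProjBdl.isFinLocFreeOfRank_one_structureModule
  have hb := hμs Y hY (isAdditive_beta (X := X) k hE)
  rw [beta_of_isZero k hE hz, beta_of_isZero k hE (hzero Y hY subset_rfl), add_zero, add_zero] at hb
  have eW : ⋃₀ {C | C ∈ irreducibleComponents (X : Type u) ∧ C ⊆ Y ∩ Y} = Y := by
    refine subset_antisymm (Set.sUnion_subset fun C hC => hC.2.trans Set.inter_subset_left) fun z hz => ?_
    obtain ⟨η, hη, hηY, hηz⟩ := hYF z hz
    exact ⟨closure {η}, ⟨hη, by rw [Set.inter_self]; exact hYc.closure_subset_iff.2 (Set.singleton_subset_iff.2 hηY)⟩,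
      specializes_iff_mem_closure.1 hηz⟩
  obtain ⟨eG, -⟩ := quot_unique hM (eW ▸ hGW Y hY) hGY
  obtain ⟨B', pB', hB'⟩ := exists_quot hM' (isClosed_cpl Y) (isFullSet_cpl Y)
  exact ⟨G' Y hY, B', π Y hY, pB', hG' Y hY, hB',
    (beta_eq_iff_isIso k hE hpure D hYc hM hGY one_pos rfl (hG' Y hY) hB').1 (hb.trans (beta_iso k _ eG))⟩

include hpure in
/-- The potential is bounded above on modules with given Euler characteristic. -/
theorem exists_potential_bound (χ₀ : ℤ) : ∃ Nb : ℤ, ∀ M : X.Modules, TFOne.IsTF1 X M → Curv2.euler k X M = χ₀ →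
    potential (Curv2.euler k X) M ≤ Nb := by
  classical
  let P := (finite_proper (X := X)).toFinset
  have hb : ∀ T ∈ P, ∃ N : ℤ, ∀ M : X.Modules, TFOne.IsTF1 X M →
      qf (Curv2.euler k X) M T + qf (Curv2.euler k X) M (cpl T) ≤ Curv2.euler k X M + N := fun T hT =>
    exists_bound k hpure (isClosed_of_isSubcurve ((finite_proper (X := X)).mem_toFinset.1 hT).1)
      (isFullSet_of_isSubcurve ((finite_proper (X := X)).mem_toFinset.1 hT).1)
  choose N hN using hb
  refine ⟨∑ T ∈ P.attach, |χ₀ + N T.1 T.2|, fun M hM hχ => ?_⟩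
  have e1 : potential (Curv2.euler k X) M = ∑ T ∈ P, qf (Curv2.euler k X) M (cpl T) := by
    refine Finset.sum_nbij' cpl cpl (fun T hT => ?_) (fun T hT => ?_) (fun T hT => ?_) (fun T hT => ?_) (fun T hT => ?_)
    all_goals simp only [P, Finset.mem_coe, Set.Finite.mem_toFinset, Set.Finite.coe_toFinset] at hT ⊢
    · exact cpl_mem_proper hT
    · exact cpl_mem_proper hT
    · exact cpl_cpl hT.1
    · exact cpl_cpl hT.1
    · rw [cpl_cpl hT.1]
  have e2 : 2 * potential (Curv2.euler k X) M ≤ ∑ T ∈ P.attach, |χ₀ + N T.1 T.2| := by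
    rw [two_mul]
    nth_rewrite 2 [e1]
    rw [potential, ← Finset.sum_add_distrib, ← Finset.sum_attach]
    refine Finset.sum_le_sum fun T _ => (hN T.1 T.2 M hM).trans ?_
    rw [hχ]
    exact le_abs_self _
  have h0 : 0 ≤ ∑ T ∈ P.attach, |χ₀ + N T.1 T.2| := Finset.sum_nonneg fun T _ => abs_nonneg _
  omega

end Groth.L15.TFCurve
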