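import Groth.Agent.L15.TFCurve.Lattice
import Groth.Agent.L15.TFCurve.BC.Transfer

/-!
# From the two fibres to all geometric fibres
-/

set_option autoImplicit false
set_option linter.style.haveILetI false
set_option backward.isDefEq.respectTransparency false
set_option backward.isDefEq.respectTransparency.types false

universe u

open CategoryTheory CategoryTheory.Limits AlgebraicGeometry TopologicalSpace

noncomputable section

namespace Groth.L15.TFCurve

open BC

section

variable {Z : Scheme.{u}} {k : Type u} [Field k] {q : Z ⟶ Spec (CommRingCat.of k)} {M E E' : Z.Modules} {r : ℕ}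

theorem rBeta_iso_left (e : E ≅ E') (T : Set Z) (hT : IsClosed T) (G : Z.Modules) :
    TFOne.rBeta Z k q T hT E r G = TFOne.rBeta Z k q T hT E' r G := by
  show (r : ℤ) * _ + (_ - _) = (r : ℤ) * _ + (_ - _)
  letI : (VecSt.subsch Z T hT).Over (Spec (CommRingCat.of k)) := ⟨VecSt.subschι Z T hT ≫ q⟩
  rw [Groth.L03.Euler.euler_iso ((Scheme.Modules.pullback (VecSt.subschι Z T hT)).mapIso e)]

theorem isSemistable_iso_left (e : E ≅ E') (h : TFOne.IsSemistable Z k q M E' r) : TFOne.IsSemistable Z k q M E r :=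
  ⟨h.1, fun T hT hTs hne G π hG => (h.2 T hT hTs hne G π hG).trans_eq (rBeta_iso_left e T hT G).symm⟩

theorem isQuasistableAtPt_iso_left (e : E ≅ E') {p : Z} (h : TFOne.IsQuasistableAtPt Z k q M E' r p) :
    TFOne.IsQuasistableAtPt Z k q M E r p :=
  ⟨isSemistable_iso_left e h.1,
    fun T hT hTs hne hp G π hG => (h.2 T hT hTs hne hp G π hG).trans_eq (rBeta_iso_left e T hT G).symm⟩

end

variable {R : Type u} [CommRing R] [IsDomain R] [IsDiscreteValuationRing R] {X : Scheme.{u}}
  {f : X ⟶ Spec (CommRingCat.of R)} [IsProper f]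
  {Xs : Scheme.{u}} [Xs.Over (Spec (CommRingCat.of (IsLocalRing.ResidueField R)))] {i : Xs ⟶ X}
  (hsq : IsPullback i (Xs ↘ Spec (CommRingCat.of (IsLocalRing.ResidueField R))) f
    (Spec.map (CommRingCat.ofHom (IsLocalRing.residue R))))
  [IsReduced Xs] (hpure : ∀ C ∈ irreducibleComponents (Xs : Type u), topologicalKrullDim C = 1)
  (hgi : GICmp (IsLocalRing.ResidueField R) (Xs ↘ Spec (CommRingCat.of (IsLocalRing.ResidueField R))))
  {Xg : Scheme.{u}} {qg : Xg ⟶ Spec (CommRingCat.of (FractionRing R))} {j : Xg ⟶ X}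
  (hgen : IsPullback j qg f (Spec.map (CommRingCat.ofHom (algebraMap R (FractionRing R)))))
  {E : X.Modules} {r : ℕ} (hE : FlatMod.IsFinLocFreeOfRank r E) {d : ℤ} {I N : X.Modules}

include hsq hpure hgi hgen hE in
theorem fibSemistable (L : Lat f i j d I N)
    (hs : TFOne.IsSemistable Xs (IsLocalRing.ResidueField R) (Xs ↘ Spec (CommRingCat.of (IsLocalRing.ResidueField R)))
      ((Scheme.Modules.pullback i).obj N) ((Scheme.Modules.pullback i).obj E) r)
    (hIg : TFOne.FibSemistable qg ((Scheme.Modules.pullback j).obj I) ((Scheme.Modules.pullback j).obj E) r) :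
    TFOne.FibSemistable f N E r := by
  haveI := isProper_special hsq
  intro Ω _ _ t Y g q sq
  obtain ⟨φ, rfl⟩ := Spec.map_surjective t
  rcases hom_cases φ.hom with hφ | hφ
  · obtain ⟨e⟩ := L.gen
    obtain ⟨l, ψ, hl, hlj, -, ⟨e'⟩⟩ := exists_generic_square hgen e hφ sq
    exact isSemistable_iso e' (isSemistable_iso_left
      (((Scheme.Modules.pullbackCongr hlj).app E).symm ≪≫ ((Scheme.Modules.pullbackComp l j).app E).symm)
      (hIg Ω _ Y l q hl))
  · obtain ⟨l, ψ, hl, hli, -, ⟨e'⟩⟩ := exists_special_square hsq N hφ sq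
    letI : Y.Over (Spec (CommRingCat.of Ω)) := ⟨q⟩
    letI : Algebra (IsLocalRing.ResidueField R) Ω := ψ.toAlgebra
    exact isSemistable_iso e' (isSemistable_iso_left
      (((Scheme.Modules.pullbackCongr hli).app E).symm ≪≫ ((Scheme.Modules.pullbackComp l i).app E).symm)
      (isSemistable_ext (Ω := Ω) (p := l) hl hgi hpure (isFinLocFreeOfRank_pullback' i hE) hs))

include hsq hpure hgi hgen in
theorem fibSimple [Nonempty Xs] (L : Lat f i j d I N)
    (hs : TFOne.IsSimple Xs (IsLocalRing.ResidueField R) (Xs ↘ Spec (CommRingCat.of (IsLocalRing.ResidueField R)))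
      ((Scheme.Modules.pullback i).obj N))
    (hIg : TFOne.FibSimple qg ((Scheme.Modules.pullback j).obj I)) :
    TFOne.FibSimple f N := by
  haveI := isProper_special hsq
  intro Ω _ _ t Y g q sq
  obtain ⟨φ, rfl⟩ := Spec.map_surjective t
  rcases hom_cases φ.hom with hφ | hφ
  · obtain ⟨e⟩ := L.gen
    obtain ⟨l, ψ, hl, -, -, ⟨e'⟩⟩ := exists_generic_square hgen e hφ sq
    exact isSimple_iso e' (hIg Ω _ Y l q hl)
  · obtain ⟨l, ψ, hl, -, -, ⟨e'⟩⟩ := exists_special_square hsq N hφ sq
    letI : Y.Over (Spec (CommRingCat.of Ω)) := ⟨q⟩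
    letI : Algebra (IsLocalRing.ResidueField R) Ω := ψ.toAlgebra
    exact isSimple_iso e' (isSimple_ext (Ω := Ω) (p := l) hl hgi hpure L.tf hs)

end Groth.L15.TFCurve
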