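import Groth.Agent.L15.TFCurve.BC.ZbCurve
import Groth.Agent.L15.TFCurve.Lattice
import Groth.Agent.L15.TFCurve.Red.QFun

/-!
# Consequences of semistability of the generic fibre for quotients over the completion
-/

set_option autoImplicit false
set_option linter.style.haveILetI false
set_option backward.isDefEq.respectTransparency false
set_option backward.isDefEq.respectTransparency.types false

universe u

open CategoryTheory CategoryTheory.Limits AlgebraicGeometry TopologicalSpace

noncomputable section

namespace Groth.L15.TFCurve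

open BC

theorem beta_iso_left {Z : Scheme.{u}} (k : Type u) [Field k] [Z.Over (Spec (CommRingCat.of k))] {E E' : Z.Modules}
    (e : E ≅ E') (G : Z.Modules) : beta k E G = beta k E' G :=
  Groth.L03.Euler.euler_iso (Groth.L00.Tensor.tensorIso e (Iso.refl G))

variable {R : Type u} [CommRing R] [IsDomain R] [IsDiscreteValuationRing R] {X : Scheme.{u}}
  {f : X ⟶ Spec (CommRingCat.of R)} [IsProper f] [Flat f]
  {Xs : Scheme.{u}} [Xs.Over (Spec (CommRingCat.of (IsLocalRing.ResidueField R)))] {i : Xs ⟶ X}
  (hsq : IsPullback i (Xs ↘ Spec (CommRingCat.of (IsLocalRing.ResidueField R))) f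
    (Spec.map (CommRingCat.ofHom (IsLocalRing.residue R))))
  [IsReduced Xs] (hpure : ∀ C ∈ irreducibleComponents (Xs : Type u), topologicalKrullDim C = 1)
  {Xg : Scheme.{u}} {qg : Xg ⟶ Spec (CommRingCat.of (FractionRing R))} {j : Xg ⟶ X}
  (hgen : IsPullback j qg f (Spec.map (CommRingCat.ofHom (algebraMap R (FractionRing R)))))
  {E : X.Modules} {r : ℕ} (hE : FlatMod.IsFinLocFreeOfRank r E) {d : ℤ}
  (hEd : Curv2.deg (IsLocalRing.ResidueField R) Xs ((Scheme.Modules.pullback i).obj E) r = -(r : ℤ) * d)
  {I : X.Modules}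

include hsq hpure hE hEd in
omit [Flat f] in
/-- The total invariant of a lattice vanishes. -/
theorem Lat.beta_eq_zero {N : X.Modules} (L : Lat f i j d I N) :
    beta (IsLocalRing.ResidueField R) ((Scheme.Modules.pullback i).obj E) ((Scheme.Modules.pullback i).obj N) = 0 := by
  haveI := isProper_special hsq
  rw [beta_self (IsLocalRing.ResidueField R) (isFinLocFreeOfRank_pullback' i hE) hpure L.tf, L.euler_eq, hEd]
  ring

include hsq hpure hgen hE hEd in
/-- The geometric generic fibre of a lattice over the completion. -/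
theorem generic_zb (hgi : GICmp (IsLocalRing.ResidueField R) (Xs ↘ Spec (CommRingCat.of (IsLocalRing.ResidueField R))))
    {N : X.Modules} (L : Lat f i j d I N) (hIg : TFOne.FibSemistable qg ((Scheme.Modules.pullback j).obj I) ((Scheme.Modules.pullback j).obj E) r) :
    ∃ (EΩ : (Zb f).Modules) (_ : (Scheme.Modules.pullback (bb f)).obj E ≅ EΩ),
      FlatMod.IsFinLocFreeOfRank r EΩ ∧
      letI := overB f
      TFOne.IsSemistable (Zb f) (Kb R) ((Zb f) ↘ Spec (CommRingCat.of (Kb R))) ((Scheme.Modules.pullback (bb f)).obj N) EΩ r ∧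
        beta (Kb R) EΩ ((Scheme.Modules.pullback (bb f)).obj N) = 0 := by
  letI := overB f
  obtain ⟨e⟩ := L.gen
  obtain ⟨l, ψ, hl, hlj, -, ⟨e'⟩⟩ := exists_generic_square hgen e (injective_φb R) (isPullback_bb f)
  have hss := hIg (Kb R) (Spec.map (CommRingCat.ofHom ψ)) (Zb f) l (qb f) hl
  let eE : (Scheme.Modules.pullback (bb f)).obj E ≅ (Scheme.Modules.pullback l).obj ((Scheme.Modules.pullback j).obj E) :=
    ((Scheme.Modules.pullbackCongr hlj).app E).symm ≪≫ ((Scheme.Modules.pullbackComp l j).app E).symm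
  refine ⟨_, eE, isFinLocFreeOfRank_pullback' l (isFinLocFreeOfRank_pullback' j hE), isSemistable_iso e' hss, ?_⟩
  haveI : IsProper (Xs ↘ Spec (CommRingCat.of (IsLocalRing.ResidueField R))) := isProper_special hsq
  haveI : IsLocallyNoetherian X := LocallyOfFiniteType.isLocallyNoetherian f
  haveI : IsLocallyNoetherian (Xh f) := LocallyOfFiniteType.isLocallyNoetherian (fh f)
  rw [← beta_iso_left (Kb R) eE, ← beta_iso (Kb R) _ ((Scheme.Modules.pullbackComp (bh f) (gh f)).app N)]
  have h := beta_bh hsq hE (F := (Scheme.Modules.pullback (gh f)).obj N)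
    (Groth.L16.AffineBC.isCoh_pullback (gh f) L.coh) (isFlatOver_gh f L.flat)
  rw [beta_iso (IsLocalRing.ResidueField R) _ (isoT hsq N), L.beta_eq_zero hsq hpure hE hEd] at h
  exact h

include hsq hpure hgen hE hEd in
/-- A quotient over the completion of a lattice has non-negative invariant on the special fibre, if the generic fibre
is semistable. -/
theorem beta_special_nonneg (hgi : GICmp (IsLocalRing.ResidueField R) (Xs ↘ Spec (CommRingCat.of (IsLocalRing.ResidueField R))))
    {N : X.Modules} (L : Lat f i j d I N) (hIg : TFOne.FibSemistable qg ((Scheme.Modules.pullback j).obj I) ((Scheme.Modules.pullback j).obj E) r)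
    {F : (Xh f).Modules} (hFc : Coh.IsCoh F) (hFf : FlatMod.IsFlatOver (fh f) F)
    (p : (Scheme.Modules.pullback (gh f)).obj N ⟶ F) [Epi p] :
    0 ≤ beta (IsLocalRing.ResidueField R) ((Scheme.Modules.pullback i).obj E) ((Scheme.Modules.pullback (ih hsq)).obj F) := by
  letI := overB f
  haveI : IsProper ((Zb f) ↘ Spec (CommRingCat.of (Kb R))) := isProper_zb f
  haveI := isReduced_zb hsq hgi
  haveI := Groth.L21.RR.isNoetherian_of_proper (X := Zb f) (Kb R)
  haveI : IsLocallyNoetherian X := LocallyOfFiniteType.isLocallyNoetherian f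
  haveI : IsLocallyNoetherian (Xh f) := LocallyOfFiniteType.isLocallyNoetherian (fh f)
  obtain ⟨EΩ, eE, hEΩ, hss, h0⟩ := generic_zb hsq hpure hgen hE hEd hgi L hIg
  haveI := epi_quotZ f p
  have h := beta_nonneg_of_quot hss.1 (Kb R) hEΩ (hpure_zb hsq hpure) hss h0
    (Groth.L16.AffineBC.isCoh_pullback (bh f) hFc) (quotZ f p)
  rw [← beta_iso_left (Kb R) eE] at h
  exact h.trans_eq (beta_bh hsq hE hFc hFf)

end Groth.L15.TFCurve
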