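import Groth.Agent.L15.TFCurve.Red.StalkLength
import Groth.Agent.L15.TFCurve.BC.FibreGlue
import Groth.Agent.L15.TFCurve.Fibre
import Mathlib.RingTheory.Nakayama

/-!
# Isomorphisms detected on the special fibre
-/

set_option autoImplicit false
set_option linter.style.haveILetI false
set_option backward.isDefEq.respectTransparency false
set_option backward.isDefEq.respectTransparency.types false

universe u

open CategoryTheory CategoryTheory.Limits AlgebraicGeometry TopologicalSpace

noncomputable section

namespace Groth.L15.TFCurve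

open BC

variable {R : Type u} [CommRing R] [IsDomain R] [IsDiscreteValuationRing R] {Z : Scheme.{u}}
  {g : Z ⟶ Spec (CommRingCat.of R)} [IsProper g] {S : Scheme.{u}}
  {q : S ⟶ Spec (CommRingCat.of (IsLocalRing.ResidueField R))} {i : S ⟶ Z}
  (hsq : IsPullback i q g (Spec.map (CommRingCat.ofHom (IsLocalRing.residue R))))
include hsq

omit [IsProper g] in
/-- Nakayama at a point of the special fibre. -/
theorem subsingleton_of_eq_smul [IsLocallyNoetherian Z] {C : Z.Modules} (hC : Coh.IsCoh C) {ϖ : R} (hϖ : Irreducible ϖ)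
    (x : S) (h : ∀ c : C.presheaf.stalk (i x), ∃ c', tGerm g ϖ (i x) • c' = c) :
    Subsingleton (C.presheaf.stalk (i x)) := by
  haveI := finite_stalk hC (i x)
  let O := Z.presheaf.stalk (i x)
  let m := IsLocalRing.maximalIdeal O
  have ht : tGerm g ϖ (i x) ∈ m :=
    (IsLocalRing.mem_maximalIdeal _).2 (not_isUnit_tGerm g hϖ ((range_of_special hsq).le ⟨x, rfl⟩))
  have htop : (⊤ : Submodule O (C.presheaf.stalk (i x))) = ⊥ := by
    refine Submodule.eq_bot_of_le_smul_of_le_jacobson_bot m ⊤ Module.Finite.fg_top (fun c _ => ?_)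
      (IsLocalRing.jacobson_eq_maximalIdeal ⊥ bot_ne_top).ge
    obtain ⟨c', rfl⟩ := h c
    exact Submodule.smul_mem_smul ht trivial
  exact (Submodule.subsingleton_iff O).1 (subsingleton_of_bot_eq_top htop.symm)

/-- A coherent module vanishing at all points of the special fibre vanishes. -/
theorem isZero_of_special [IsLocallyNoetherian Z] {C : Z.Modules} (hC : Coh.IsCoh C)
    (h : ∀ x : S, Subsingleton (C.presheaf.stalk (i x))) : IsZero C := by
  rw [Groth.L21.Mod.isZero_iff_stalk_subsingleton]
  intro y
  by_contra hy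
  obtain ⟨w, hw, hwc⟩ := exists_mem_closedFibre g (Groth.L16.CohSupport.isClosed_support C hC.2) ⟨y, hy⟩
  obtain ⟨x, rfl⟩ := (range_of_special hsq).ge hwc
  exact hw (h x)

variable [IsClosedImmersion i]

/-- A map to a flat coherent module which is an isomorphism on the special fibre is an isomorphism. -/
theorem isIso_of_special {A B : Z.Modules} (hA : Coh.IsCoh A) (hB : Coh.IsCoh B) (hBf : FlatMod.IsFlatOver g B)
    (φ : A ⟶ B) (h : IsIso ((Scheme.Modules.pullback i).map φ)) : IsIso φ := by
  haveI : IsLocallyNoetherian Z := LocallyOfFiniteType.isLocallyNoetherian g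
  obtain ⟨ϖ, hϖ⟩ := IsDiscreteValuationRing.exists_irreducible R
  haveI := h
  have hz : IsZero (cokernel φ) := by
    refine isZero_of_special hsq (Groth.L16.CohKernel.isCoh_kernel_cokernel hA hB φ).2 fun x =>
      subsingleton_of_eq_smul hsq (Groth.L16.CohKernel.isCoh_kernel_cokernel hA hB φ).2 hϖ x fun c => ?_
    refine (uStalk_eq_zero_iff_smul i g q hsq hϖ (cokernel φ) x c).1 ?_
    obtain ⟨b, rfl⟩ := st_surjective (cokernel.π φ) (i x) c
    obtain ⟨a', ha'⟩ := st_surjective ((Scheme.Modules.pullback i).map φ) x (uStalk i B x b)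
    obtain ⟨a, rfl⟩ := uStalk_surjective i A x a'
    refine ((pullback_map_uStalk i (cokernel.π φ) x b).symm.trans (congrArg _ ha'.symm)).trans ?_
    rw [← st_apply, ← st_comp, ← Functor.map_comp, cokernel.condition]
    haveI : (Scheme.Modules.pullback i).Additive :=
      (Scheme.Modules.pullbackPushforwardAdjunction i).left_adjoint_additive
    rw [Functor.map_zero]
    exact st_zero x _
  haveI : Epi φ := Preadditive.epi_of_isZero_cokernel φ hz
  have hK : IsZero (kernel φ) := by
    refine isZero_of_special hsq (Groth.L16.CohKernel.isCoh_kernel_cokernel hA hB φ).1 fun x =>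
      subsingleton_of_eq_smul hsq (Groth.L16.CohKernel.isCoh_kernel_cokernel hA hB φ).1 hϖ x fun u => ?_
    have h0 : st φ (i x) (st (kernel.ι φ) (i x) u) = 0 := stalk_comp_eq_zero (kernel.condition φ) (i x) u
    have h1 : uStalk i A x (st (kernel.ι φ) (i x) u) = 0 := by
      refine st_injective ((Scheme.Modules.pullback i).map φ) x (Eq.trans ?_ (map_zero _).symm)
      exact (pullback_map_uStalk i φ x _).trans ((congrArg (uStalk i B x) h0).trans (map_zero _))
    obtain ⟨a', ha'⟩ := (uStalk_eq_zero_iff_smul i g q hsq hϖ A x _).1 h1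
    have h2 : st φ (i x) a' = 0 := by
      refine tGerm_smul_injective g hϖ hBf (i x) ?_
      exact ((map_smul (st φ (i x)) _ a').symm.trans ((congrArg (st φ (i x)) ha').trans h0)).trans
        (smul_zero _).symm
    obtain ⟨u', hu'⟩ := (st_kernel φ (i x)).1 h2
    refine ⟨u', st_injective (kernel.ι φ) (i x) ?_⟩
    rw [map_smul, hu']
    exact ha'
  haveI : Mono φ := Preadditive.mono_of_isZero_kernel φ hK
  exact isIso_of_mono_of_epi φ

end Groth.L15.TFCurve
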