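import Groth.Agent.L15.TFCurve.Red.QuasiCore
import Groth.Agent.L15.TFCurve.Red.Decomp

/-!
# Quasi-stable reduction along a section through the smooth locus
-/

set_option autoImplicit false
set_option linter.style.haveILetI false
set_option backward.isDefEq.respectTransparency false
set_option backward.isDefEq.respectTransparency.types false

universe u

open CategoryTheory CategoryTheory.Limits AlgebraicGeometry TopologicalSpace

noncomputable section

namespace Groth.L15.TFCurve

open BC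

variable {R : Type u} [CommRing R] [IsDomain R] [IsDiscreteValuationRing R] {X : Scheme.{u}}
  {f : X ⟶ Spec (CommRingCat.of R)} [IsProper f] [Flat f]
  {Xs : Scheme.{u}} [Xs.Over (Spec (CommRingCat.of (IsLocalRing.ResidueField R)))] {i : Xs ⟶ X}
  (hsq : IsPullback i (Xs ↘ Spec (CommRingCat.of (IsLocalRing.ResidueField R))) f
    (Spec.map (CommRingCat.ofHom (IsLocalRing.residue R))))
  [IsReduced Xs] (hpure : ∀ C ∈ irreducibleComponents (Xs : Type u), topologicalKrullDim C = 1)
  (hgi : GICmp (IsLocalRing.ResidueField R) (Xs ↘ Spec (CommRingCat.of (IsLocalRing.ResidueField R))))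
  {Xg : Scheme.{u}} {qg : Xg ⟶ Spec (CommRingCat.of (FractionRing R))} {j : Xg ⟶ X}
  (hgen : IsPullback j qg f (Spec.map (CommRingCat.ofHom (algebraMap R (FractionRing R)))))
  {E : X.Modules} {r : ℕ} (hE : FlatMod.IsFinLocFreeOfRank r E) {d : ℤ}
  (hEd : Curv2.deg (IsLocalRing.ResidueField R) Xs ((Scheme.Modules.pullback i).obj E) r = -(r : ℤ) * d)
  {I : X.Modules} {σ : Spec (CommRingCat.of R) ⟶ X} (hσ : σ ≫ f = 𝟙 _)
  {σg : Spec (CommRingCat.of (FractionRing R)) ⟶ Xg} (hσg : σg ≫ qg = 𝟙 _)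

include hσg in
omit [IsReduced Xs] in
/-- Quasi-stability along a section implies semistability. -/
theorem fibSemistable_of_quasistable {G EG : Xg.Modules}
    (h : TFOne.FibQuasistableAlong qg G EG σg hσg r) : TFOne.FibSemistable qg G EG r := by
  intro Ω _ _ t Y l q sq
  exact (h Ω t Y l q sq (sq.lift (t ≫ σg) (𝟙 _) (by rw [Category.assoc, hσg, Category.comp_id, Category.id_comp]))
    (sq.lift_fst _ _ _) (sq.lift_snd _ _ _)).1

variable (hσgj : σg ≫ j = Spec.map (CommRingCat.ofHom (algebraMap R (FractionRing R))) ≫ σ)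
  (U : X.Opens) (hσU : Set.range σ.base ⊆ (U : Set X)) [Smooth (U.ι ≫ f)]

include hsq hσ in
omit [Flat f] [IsReduced Xs] in
/-- The point where the section meets the special fibre. -/
theorem exists_section_point : ∃ p₀ : Xs, i p₀ = σ (IsLocalRing.closedPoint R) := by
  refine (range_of_special hsq).ge ?_
  show f (σ (IsLocalRing.closedPoint R)) = _
  rw [← Scheme.Hom.comp_apply, hσ]
  rfl

include hsq hσU in
omit [Flat f] [IsReduced Xs] in
theorem exists_unique_component {p₀ : Xs} (hp₀ : i p₀ = σ (IsLocalRing.closedPoint R)) :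
    ∃ η ∈ genericPoints Xs, η ⤳ p₀ ∧ ∀ η' ∈ genericPoints Xs, η' ⤳ p₀ → η' = η := by
  haveI : Smooth ((i ⁻¹ᵁ U).ι ≫ (Xs ↘ Spec (CommRingCat.of (IsLocalRing.ResidueField R)))) :=
    MorphismProperty.of_isPullback (P := @Smooth) ((isPullback_morphismRestrict i U).paste_vert hsq) inferInstance
  exact exists_unique_generic_of_smooth (Xs ↘ Spec (CommRingCat.of (IsLocalRing.ResidueField R))) (i ⁻¹ᵁ U)
    (show i p₀ ∈ U from hp₀ ▸ hσU ⟨_, rfl⟩)

variable {hE}

include hsq hpure hgi hgen hE hEd hσ hσg hσgj hσU in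
/-- A lattice quasi-stable at the point of the section exists. -/
theorem exists_quasistable (hr : 0 < r) (hI : Lat f i j d I I)
    (hIg : TFOne.FibQuasistableAlong qg ((Scheme.Modules.pullback j).obj I) ((Scheme.Modules.pullback j).obj E) σg hσg r) :
    ∃ (N : X.Modules) (p₀ : Xs), i p₀ = σ (IsLocalRing.closedPoint R) ∧ Lat f i j d I N ∧
      TFOne.IsQuasistableAtPt Xs (IsLocalRing.ResidueField R) (Xs ↘ Spec (CommRingCat.of (IsLocalRing.ResidueField R)))
        ((Scheme.Modules.pullback i).obj N) ((Scheme.Modules.pullback i).obj E) r p₀ := by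
  haveI := isProper_special hsq
  haveI := Groth.L21.RR.isNoetherian_of_proper (X := Xs) (IsLocalRing.ResidueField R)
  let k := IsLocalRing.ResidueField R
  have hEs := isFinLocFreeOfRank_pullback' i hE
  obtain ⟨p₀, hp₀⟩ := exists_section_point hsq hσ
  obtain ⟨η₀, hη₀, hη₀p, huniq⟩ := exists_unique_component hsq U hσU hp₀
  by_contra hno
  push Not at hno
  have hmemT : ∀ {T : Set Xs}, IsClosed T → IsFullSet T → (p₀ ∈ T ↔ η₀ ∈ T) := fun {T} hT hTF =>
    ⟨fun h => by
      obtain ⟨η, hη, hηT, hηp⟩ := hTF p₀ h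
      exact huniq η hη hηp ▸ hηT, fun h => hη₀p.mem_closed hT h⟩
  -- every semistable lattice has a smallest bad subcurve
  let Bad : X.Modules → Set Xs → Prop := fun N T => T ∈ proper Xs ∧ η₀ ∈ T ∧ bS R i E N T = 0
  let SS : X.Modules → Prop := fun N => Lat f i j d I N ∧ ∀ T, VecSt.IsSubcurve Xs T → 0 ≤ bS R i E N T
  have hbad : ∀ N, SS N → ∃ Y, Bad N Y ∧ ∀ T, Bad N T → (gens Y).ncard ≤ (gens T).ncard := by
    intro N ⟨L, hnn⟩
    have hss := (isSemistable_iff_bS hsq hpure hE hEd L).2 hnn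
    have h := hno N p₀ hp₀ L
    have hex : ∃ T, Bad N T := by
      by_contra! hall
      refine h ⟨hss, fun T hT hTs hne hpT G π hG => ?_⟩
      rw [rBeta_eq k hEs hpure L.tf hT hG, ← bS_eq hsq L hG]
      exact lt_of_le_of_ne (hnn T hTs)
        (Ne.symm fun h0 => hall T ⟨⟨hTs, hne⟩, (hmemT hT (isFullSet_of_isSubcurve hTs)).1 hpT, h0⟩)
    obtain ⟨T₀, hT₀⟩ := hex
    obtain ⟨Y, hY, hmin⟩ := Set.exists_min_image {T | Bad N T} (fun T => (gens T).ncard)
      ((finite_proper (X := Xs)).subset fun T h => h.1) ⟨T₀, hT₀⟩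
    exact ⟨Y, hY, fun T hT => hmin T hT⟩
  let n := (gens (Set.univ : Set Xs)).ncard
  have key : ∀ (t : ℕ) (N : X.Modules) (Y : Set Xs), SS N → Bad N Y →
      (∀ T, Bad N T → (gens Y).ncard ≤ (gens T).ncard) → n - (gens Y).ncard < t → False := by
    intro t
    induction t with
    | zero => intros; omega
    | succ t ih =>
      intro N Y hN hY hYmin ht
      let P : X.Modules → Prop := fun N => SS N ∧ Bad N Y ∧ ∀ T, Bad N T → (gens Y).ncard ≤ (gens T).ncard
      have hYc := isClosed_of_isSubcurve hY.1.1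
      have hYF := isFullSet_of_isSubcurve hY.1.1
      let Y' := ⋃₀ {C | C ∈ irreducibleComponents (Xs : Type u) ∧ ¬ C ⊆ Y}
      have hsub : {C | C ∈ irreducibleComponents (Xs : Type u) ∧ ¬ C ⊆ Y} ⊆ irreducibleComponents (Xs : Type u) :=
        fun C hC => hC.1
      have hq : ∀ s : {N // P N}, ∃ (G G' : Xs.Modules) (π : (Scheme.Modules.pullback i).obj s.1 ⟶ G)
          (π' : (Scheme.Modules.pullback i).obj s.1 ⟶ G'),
          TFOne.IsQuotOn Xs ((Scheme.Modules.pullback i).obj s.1) Y G π ∧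
          TFOne.IsQuotOn Xs ((Scheme.Modules.pullback i).obj s.1) Y' G' π' := fun s => by
        obtain ⟨G, π, hG⟩ := exists_quot s.2.1.1.tf hYc hYF
        obtain ⟨G', π', hG'⟩ := exists_quot s.2.1.1.tf (isClosed_sUnion_components hsub) (isFullSet_sUnion hsub)
        exact ⟨G, G', π, π', hG, hG'⟩
      choose G G' π π' hG hG' using hq
      have hb0 : ∀ s : {N // P N}, beta k ((Scheme.Modules.pullback i).obj E) (G s) = 0 := fun s => by
        rw [← bS_eq hsq s.2.1.1 (hG s)]
        exact s.2.2.1.2.2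
      have hstep : ∀ s : {N // P N}, P (md i (π s)) := fun s => by
        obtain ⟨⟨L, hnn⟩, -, hmin⟩ := s.2
        have L' := L.md hsq hgen (hG s)
        obtain ⟨D⟩ := nonempty_modif_md hsq L.coh L.flat (hG s)
        have hineq : ∀ T, VecSt.IsSubcurve Xs T → ∃ W, IsClosed W ∧
            W = ⋃₀ {C | C ∈ irreducibleComponents (Xs : Type u) ∧ C ⊆ Y ∩ T} ∧
            (W.Nonempty → VecSt.IsSubcurve Xs W) ∧ 0 ≤ bS R i E s.1 W ∧
            bS R i E s.1 W ≤ bS R i E (md i (π s)) T := by
          intro T hT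
          have hTc := isClosed_of_isSubcurve hT
          obtain ⟨GT, πT, hGT⟩ := exists_quot L'.tf hTc (isFullSet_of_isSubcurve hT)
          obtain ⟨W, hWc, hWeq, GW, GU, πW, πU, hGW, hGU, hUs, hWs, hW0, hineq⟩ :=
            exists_inequality k hEs hpure D hYc L.tf (hG s) hTc hT hY.1.1 hGT
          rw [← bS_eq hsq L' hGT, ← bS_eq hsq L hGW, ← bS_eq hsq L hGU, hb0 s] at hineq
          have hW : 0 ≤ bS R i E s.1 W := by
            by_cases hne : W.Nonempty
            · exact hnn W (hWs hne)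
            · rw [bS_eq hsq L hGW, hW0 hne]
          have hU := hnn _ hUs
          exact ⟨W, hWc, hWeq, hWs, hW, by omega⟩
        have hSS : SS (md i (π s)) := ⟨L', fun T hT => by
          obtain ⟨W, -, -, -, hW, hle⟩ := hineq T hT
          omega⟩
        obtain ⟨Y₁, hY₁, hY₁min⟩ := hbad _ hSS
        obtain ⟨W, hWc, hWeq, hWs, hW, hle⟩ := hineq Y₁ hY₁.1.1
        have hη₀W : η₀ ∈ W := by
          rw [hWeq]
          exact (mem_inter_components hYc (isClosed_of_isSubcurve hY₁.1.1) hη₀).2 ⟨hY.2.1, hY₁.2.1⟩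
        have hWY : W ⊆ Y := by
          rw [hWeq]; exact Set.sUnion_subset fun C hC => hC.2.trans Set.inter_subset_left
        have hWY₁ : W ⊆ Y₁ := by
          rw [hWeq]; exact Set.sUnion_subset fun C hC => hC.2.trans Set.inter_subset_right
        have hWsub := hWs ⟨η₀, hη₀W⟩
        have hb : bS R i E (md i (π s)) Y₁ = 0 := hY₁.2.2
        have hWbad : Bad s.1 W := ⟨⟨hWsub, fun hu => hY.1.2 (Set.eq_univ_of_univ_subset (hu ▸ hWY))⟩, hη₀W, by omega⟩
        have hWeqY : W = Y := eq_of_subset_of_ncard hWsub hY.1.1 hWY (hmin W hWbad)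
        subst hWeqY
        by_cases hc : (gens W).ncard < (gens Y₁).ncard
        · exfalso
          refine ih _ Y₁ hSS hY₁ hY₁min ?_
          have hn : (gens Y₁).ncard ≤ n := ncard_gens_mono (Set.subset_univ Y₁)
          omega
        · have hY₁eq := eq_of_subset_of_ncard hY.1.1 hY₁.1.1 hWY₁ (not_lt.1 hc)
          rw [← hY₁eq] at hY₁ hY₁min
          exact ⟨hSS, hY₁, hY₁min⟩
      let next : {N // P N} → {N // P N} := fun s => ⟨md i (π s), hstep s⟩
      have hdec : ∀ s, IsIso (biprod.lift (π (next s)) (π' (next s))) := fun s => by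
        obtain ⟨D⟩ := nonempty_modif_md hsq s.2.1.1.coh s.2.1.1.flat (hG s)
        exact (beta_eq_iff_isIso k hEs hpure D hYc s.2.1.1.tf (hG s) hr rfl (hG (next s)) (hG' (next s))).1
          ((hb0 (next s)).trans (hb0 s).symm)
      let seq : ℕ → {N // P N} := fun a => next^[a] (next ⟨N, hN, hY, hYmin⟩)
      have hseq : ∀ a, seq (a + 1) = next (seq a) := fun a => Function.iterate_succ_apply' next a _
      have hdec' : ∀ a, IsIso (biprod.lift (π (seq a)) (π' (seq a))) := fun a => by
        cases a with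
        | zero => exact hdec _
        | succ a => rw [hseq]; exact hdec _
      obtain ⟨F, p, hp, hFc, hFf, e, he⟩ := exists_quotient_over_completion hsq (fun a => (seq a).1) (seq 0).2.1.1.coh
        (seq 0).2.1.1.flat (seq 0).2.1.1.tf Y Y' (fun a => G (seq a)) (fun a => G' (seq a)) (fun a => π (seq a))
        (fun a => π' (seq a)) (fun a => hG (seq a)) (fun a => hG' (seq a))
        (fun a => congrArg Subtype.val (hseq a)) hdec'
      haveI := hp
      exact false_of_zero_quotient hsq hpure hgi hgen hE hEd hσ hσg hσgj hp₀ hIg (seq 0).2.1.1 huniq hYc hY.1.2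
        hY.2.1 (hG (seq 0)) (hb0 (seq 0)) hFc hFf p e he
  obtain ⟨N₁, L₁, hss₁⟩ := exists_semistable hsq hpure hgi hgen hr hE hEd hI (fibSemistable_of_quasistable hσg hIg)
  have hSS₁ : SS N₁ := ⟨L₁, (isSemistable_iff_bS hsq hpure hE hEd L₁).1 hss₁⟩
  obtain ⟨Y, hY, hYmin⟩ := hbad N₁ hSS₁
  exact key _ N₁ Y hSS₁ hY hYmin (Nat.lt_succ_self _)

include hsq hpure hgi hgen hE hσ hσg hσgj in
omit [Flat f] in
/-- All geometric fibres are quasi-stable along the section. -/
theorem fibQuasistable {N : X.Modules} (L : Lat f i j d I N) {p₀ : Xs} (hp₀ : i p₀ = σ (IsLocalRing.closedPoint R))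
    (hs : TFOne.IsQuasistableAtPt Xs (IsLocalRing.ResidueField R) (Xs ↘ Spec (CommRingCat.of (IsLocalRing.ResidueField R)))
      ((Scheme.Modules.pullback i).obj N) ((Scheme.Modules.pullback i).obj E) r p₀)
    (hIg : TFOne.FibQuasistableAlong qg ((Scheme.Modules.pullback j).obj I) ((Scheme.Modules.pullback j).obj E) σg hσg r) :
    TFOne.FibQuasistableAlong f N E σ hσ r := by
  haveI := isProper_special hsq
  intro Ω _ _ t Y g q sq y hy hyq
  obtain ⟨φ, rfl⟩ := Spec.map_surjective t
  rcases hom_cases φ.hom with hφ | hφ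
  · obtain ⟨e⟩ := L.gen
    exact quasistable_generic_fibre hgen hσ hσg hσgj e hIg hφ sq y hy hyq
  · obtain ⟨l, ψ, hl, hli, hψ, ⟨e'⟩⟩ := exists_special_square hsq N hφ sq
    letI : Y.Over (Spec (CommRingCat.of Ω)) := ⟨q⟩
    letI : Algebra (IsLocalRing.ResidueField R) Ω := ψ.toAlgebra
    haveI := isClosedImmersion_special hsq
    have hpt : l (y.base (IsLocalRing.closedPoint Ω)) = p₀ := by
      refine i.isEmbedding.injective ?_
      rw [hp₀, ← Scheme.Hom.comp_apply, hli, ← Scheme.Hom.comp_apply, hy, Scheme.Hom.comp_apply]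
      refine congrArg σ ?_
      refine (point_cases _).resolve_left fun hb => ?_
      obtain ⟨ϖ, hϖ⟩ := IsDiscreteValuationRing.exists_irreducible R
      refine hϖ.ne_zero (Ideal.mem_bot.1 (hb.le ?_))
      show φ.hom ϖ ∈ (IsLocalRing.closedPoint Ω).asIdeal
      rw [hφ ϖ ((IsLocalRing.mem_maximalIdeal _).2 hϖ.not_isUnit)]
      exact Ideal.zero_mem _
    exact isQuasistableAtPt_iso e' (isQuasistableAtPt_iso_left
      (((Scheme.Modules.pullbackCongr hli).app E).symm ≪≫ ((Scheme.Modules.pullbackComp l i).app E).symm)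
      (isQuasistableAtPt_ext (Ω := Ω) (p := l) hl hgi hpure (isFinLocFreeOfRank_pullback' i hE) _ (by rw [hpt]; exact hs)))

end Groth.L15.TFCurve
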