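import Groth.Agent.L15.TFCurve.Red.Semistable
import Groth.Agent.L15.TFCurve.Red.Nakayama
import Groth.Agent.L15.TFCurve.Red.Fibres
import Groth.Agent.L08.Cube.SmoothStalk
import Groth.Agent.L01.Regular

/-!
# Quasi-stable reduction: the point of the section and the limit quotient
-/

set_option autoImplicit false
set_option linter.style.haveILetI false
set_option backward.isDefEq.respectTransparency false
set_option backward.isDefEq.respectTransparency.types false

universe u

open CategoryTheory CategoryTheory.Limits AlgebraicGeometry TopologicalSpace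

noncomputable section

namespace Groth.L15.TFCurve

open BC
open Groth.L21.Mod (stalkF)

/-- A point with a regular local ring lies on a single component. -/
theorem exists_unique_generic_of_smooth {Z : Scheme.{u}} {k : Type u} [Field k] (q : Z ⟶ Spec (CommRingCat.of k))
    (U : Z.Opens) [Smooth (U.ι ≫ q)] {p : Z} (hp : p ∈ U) :
    ∃ η ∈ genericPoints Z, η ⤳ p ∧ ∀ η' ∈ genericPoints Z, η' ⤳ p → η' = η := by
  obtain ⟨η, hη, hηp⟩ := exists_genericPoint_specializes p
  refine ⟨η, hη, hηp, fun η' hη' hη'p => ?_⟩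
  haveI := Groth.L08.Cube.isRegularLocalRing_of_smooth (U.ι ≫ q) ⟨p, hp⟩
  haveI : IsDomain ((U : Scheme.{u}).presheaf.stalk ⟨p, hp⟩) := Groth.L01.isDomain_of_regular _
  haveI : IsDomain (Z.presheaf.stalk p) :=
    Function.Injective.isDomain (U.stalkIso ⟨p, hp⟩).inv.hom (ConcreteCategory.bijective_of_isIso (U.stalkIso ⟨p, hp⟩).inv).1
  have key : ∀ ζ ∈ genericPoints Z, ∀ h : ζ ⤳ p, ∀ Q : PrimeSpectrum (Z.presheaf.stalk p),
      Z.fromSpecStalk p Q = ζ → Q.asIdeal = ⊥ := fun ζ hζ _ Q hQ => by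
    let B : PrimeSpectrum (Z.presheaf.stalk p) := ⟨⊥, Ideal.isPrime_bot⟩
    have h1 : Z.fromSpecStalk p B = Z.fromSpecStalk p Q :=
      eq_of_specializes (hQ.symm ▸ hζ : Z.fromSpecStalk p Q ∈ genericPoints Z)
        (((PrimeSpectrum.le_iff_specializes B Q).1 bot_le).map (Z.fromSpecStalk p).continuous)
    exact (congrArg PrimeSpectrum.asIdeal ((Z.fromSpecStalk p).isEmbedding.injective h1)).symm
  obtain ⟨Q, rfl⟩ : η ∈ Set.range (Z.fromSpecStalk p) := by rw [Scheme.range_fromSpecStalk]; exact hηp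
  obtain ⟨Q', rfl⟩ : η' ∈ Set.range (Z.fromSpecStalk p) := by rw [Scheme.range_fromSpecStalk]; exact hη'p
  exact congrArg _ (PrimeSpectrum.ext ((key _ hη' hη'p Q' rfl).trans (key _ hη hηp Q rfl).symm))

variable {R : Type u} [CommRing R] [IsDomain R] [IsDiscreteValuationRing R] {X : Scheme.{u}}
  {f : X ⟶ Spec (CommRingCat.of R)} [IsProper f] [Flat f]
  {Xs : Scheme.{u}} [Xs.Over (Spec (CommRingCat.of (IsLocalRing.ResidueField R)))] {i : Xs ⟶ X}
  (hsq : IsPullback i (Xs ↘ Spec (CommRingCat.of (IsLocalRing.ResidueField R))) f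
    (Spec.map (CommRingCat.ofHom (IsLocalRing.residue R))))
  [IsReduced Xs] (hpure : ∀ C ∈ irreducibleComponents (Xs : Type u), topologicalKrullDim C = 1)
  (hgi : GICmp (IsLocalRing.ResidueField R) (Xs ↘ Spec (CommRingCat.of (IsLocalRing.ResidueField R))))
  {Xg : Scheme.{u}} {qg : Xg ⟶ Spec (CommRingCat.of (FractionRing R))} {j : Xg ⟶ X}
  (hgen : IsPullback j qg f (Spec.map (CommRingCat.ofHom (algebraMap R (FractionRing R)))))
  {E : X.Modules} {r : ℕ} (hE : FlatMod.IsFinLocFreeOfRank r E) {d : ℤ}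
  (hEd : Curv2.deg (IsLocalRing.ResidueField R) Xs ((Scheme.Modules.pullback i).obj E) r = -(r : ℤ) * d)
  {I : X.Modules} {σ : Spec (CommRingCat.of R) ⟶ X} (hσ : σ ≫ f = 𝟙 _)
  {σg : Spec (CommRingCat.of (FractionRing R)) ⟶ Xg} (hσg : σg ≫ qg = 𝟙 _)
  (hσgj : σg ≫ j = Spec.map (CommRingCat.ofHom (algebraMap R (FractionRing R))) ≫ σ)
  {p₀ : Xs} (hp₀ : i p₀ = σ (IsLocalRing.closedPoint R))

include hgen hσg hσgj hσ in
omit [IsProper f] [Flat f] in
/-- The generic fibre is quasi-stable at the section, on any geometric point. -/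
theorem quasistable_generic_fibre {N : X.Modules} (eN : (Scheme.Modules.pullback j).obj N ≅ (Scheme.Modules.pullback j).obj I)
    (hIg : TFOne.FibQuasistableAlong qg ((Scheme.Modules.pullback j).obj I) ((Scheme.Modules.pullback j).obj E) σg hσg r)
    {Ω : Type u} [Field Ω] [IsAlgClosed Ω] {φ : R →+* Ω} (hφ : Function.Injective φ) {Y : Scheme.{u}} {g : Y ⟶ X}
    {q : Y ⟶ Spec (CommRingCat.of Ω)} (sq : IsPullback g q f (Spec.map (CommRingCat.ofHom φ)))
    (y : Spec (CommRingCat.of Ω) ⟶ Y) (hy : y ≫ g = Spec.map (CommRingCat.ofHom φ) ≫ σ) (hyq : y ≫ q = 𝟙 _) :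
    TFOne.IsQuasistableAtPt Y Ω q ((Scheme.Modules.pullback g).obj N) ((Scheme.Modules.pullback g).obj E) r
      (y.base (IsLocalRing.closedPoint Ω)) := by
  obtain ⟨l, ψ, hl, hlj, hψ, ⟨e'⟩⟩ := exists_generic_square hgen eN hφ sq
  refine isQuasistableAtPt_iso e' (isQuasistableAtPt_iso_left
    (((Scheme.Modules.pullbackCongr hlj).app E).symm ≪≫ ((Scheme.Modules.pullbackComp l j).app E).symm)
    (hIg Ω _ Y l q hl y ?_ hyq))
  refine hgen.hom_ext ?_ ?_
  · rw [Category.assoc, Category.assoc, hlj, hy, hσgj, ← Category.assoc, ← Spec.map_comp, ← CommRingCat.ofHom_comp, hψ]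
  · rw [Category.assoc, Category.assoc, hl.w, hσg, Category.comp_id, ← Category.assoc, hyq, Category.id_comp]

include hsq hpure hgi hgen hE hEd hσ hσg hσgj hp₀ in
/-- A flat quotient of invariant zero through the section contradicts quasi-stability of the generic fibre. -/
theorem false_of_zero_quotient
    (hIg : TFOne.FibQuasistableAlong qg ((Scheme.Modules.pullback j).obj I) ((Scheme.Modules.pullback j).obj E) σg hσg r)
    {N : X.Modules} (L : Lat f i j d I N) {η₀ : Xs}
    (huniq : ∀ η ∈ genericPoints Xs, η ⤳ p₀ → η = η₀) {Y : Set Xs} (hYc : IsClosed Y) (hYu : Y ≠ Set.univ)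
    (hη₀Y : η₀ ∈ Y) {G : Xs.Modules} {π : (Scheme.Modules.pullback i).obj N ⟶ G}
    (hG : TFOne.IsQuotOn Xs ((Scheme.Modules.pullback i).obj N) Y G π)
    (hG0 : beta (IsLocalRing.ResidueField R) ((Scheme.Modules.pullback i).obj E) G = 0)
    {F : (Xh f).Modules} (hFc : Coh.IsCoh F) (hFf : FlatMod.IsFlatOver (fh f) F)
    (p : (Scheme.Modules.pullback (gh f)).obj N ⟶ F) [Epi p] (e : (Scheme.Modules.pullback (ih hsq)).obj F ≅ G)
    (he : (Scheme.Modules.pullback (ih hsq)).map p ≫ e.hom = (isoT hsq N).hom ≫ π) : False := by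
  haveI := isProper_special hsq
  haveI := Groth.L21.RR.isNoetherian_of_proper (X := Xs) (IsLocalRing.ResidueField R)
  haveI : IsLocallyNoetherian X := LocallyOfFiniteType.isLocallyNoetherian f
  haveI : IsLocallyNoetherian (Xh f) := LocallyOfFiniteType.isLocallyNoetherian (fh f)
  haveI := isClosedImmersion_ih hsq
  haveI := isClosedImmersion_special hsq
  haveI := flat_bh f
  letI := overH (R := R) (Xs := Xs)
  letI := overB f
  haveI : IsProper ((Zb f) ↘ Spec (CommRingCat.of (Kb R))) := isProper_zb f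
  haveI := isReduced_zb hsq hgi
  haveI := Groth.L21.RR.isNoetherian_of_proper (X := Zb f) (Kb R)
  obtain ⟨ϖ, hϖ⟩ := IsDiscreteValuationRing.exists_irreducible (Rh R)
  let Np := (Scheme.Modules.pullback (gh f)).obj N
  have hNc : Coh.IsCoh Np := Groth.L16.AffineBC.isCoh_pullback (gh f) L.coh
  haveI : Coh.IsQCoh Np := hNc.1
  haveI : Coh.IsQCoh F := hFc.1
  haveI : Coh.IsQCoh G := hG.2.1.1
  haveI : Coh.IsQCoh ((Scheme.Modules.pullback i).obj N) := L.tf.1.1
  have hK : Coh.IsCoh (kernel p) := Groth.L16.CohSupport.isCoh_kernel hNc p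
  haveI : Coh.IsQCoh (kernel p) := hK.1
  -- the quotient is everything at the point of the section
  have hπinj : Function.Injective (st π p₀) := (injective_iff_map_eq_zero _).2 fun m hm => by
    refine stalk_eq_zero _ L.tf.2.1 p₀ m fun η hη h => ?_
    refine quot_injective L.tf hG hη (huniq η hη h ▸ hη₀Y) ?_
    rw [stalkF_map_specializes π h m]
    exact (congrArg (G.presheaf.stalkSpecializes h) hm).trans (map_zero _)
  haveI : Subsingleton ((kernel p).presheaf.stalk (ih hsq p₀)) := by
    refine subsingleton_of_eq_smul (isPullback_ih hsq) hK hϖ p₀ fun u => ?_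
    have h0 : st p (ih hsq p₀) (st (kernel.ι p) (ih hsq p₀) u) = 0 :=
      stalk_comp_eq_zero (kernel.condition p) (ih hsq p₀) u
    have h1 : uStalk (ih hsq) Np p₀ (st (kernel.ι p) (ih hsq p₀) u) = 0 := by
      refine st_injective (isoT hsq N).hom p₀ ((hπinj ?_).trans (map_zero _).symm)
      rw [← st_comp, ← he, st_comp, map_zero]
      exact (congrArg (st e.hom p₀) ((pullback_map_uStalk (ih hsq) p p₀ _).trans
        ((congrArg (uStalk (ih hsq) F p₀) h0).trans (map_zero _)))).trans (map_zero _)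
    obtain ⟨a', ha'⟩ := (uStalk_eq_zero_iff_smul (ih hsq) (fh f) _ (isPullback_ih hsq) hϖ Np p₀ _).1 h1
    have h2 : st p (ih hsq p₀) a' = 0 := by
      refine tGerm_smul_injective (fh f) hϖ hFf (ih hsq p₀) ?_
      exact ((map_smul (st p (ih hsq p₀)) _ a').symm.trans ((congrArg (st p (ih hsq p₀)) ha').trans h0)).trans
        (smul_zero _).symm
    obtain ⟨u', hu'⟩ := (st_kernel p (ih hsq p₀)).1 h2
    refine ⟨u', st_injective (kernel.ι p) (ih hsq p₀) ?_⟩
    rw [map_smul, hu']
    exact ha'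
  -- the point of the section on the geometric generic fibre
  let σh : Spec (CommRingCat.of (Rh R)) ⟶ Xh f := pullback.lift
    (Spec.map (CommRingCat.ofHom (algebraMap R (Rh R))) ≫ σ) (𝟙 _) (by rw [Category.assoc, hσ, Category.comp_id, Category.id_comp])
  let y : Spec (CommRingCat.of (Kb R)) ⟶ Zb f := pullback.lift
    (Spec.map (CommRingCat.ofHom (algebraMap (Rh R) (Kb R))) ≫ σh) (𝟙 _) (by
      rw [Category.assoc, show σh ≫ fh f = 𝟙 _ from pullback.lift_snd _ _ _, Category.comp_id, Category.id_comp])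
  let z₀ : Zb f := y (IsLocalRing.closedPoint (Kb R))
  have hσh : σh (IsLocalRing.closedPoint (Rh R)) = ih hsq p₀ := by
    have h1 : fh f (σh (IsLocalRing.closedPoint (Rh R))) = IsLocalRing.closedPoint (Rh R) := by
      rw [← Scheme.Hom.comp_apply, show σh ≫ fh f = 𝟙 _ from pullback.lift_snd _ _ _]
      rfl
    obtain ⟨x, hx⟩ := (range_of_special (isPullback_ih hsq)).ge h1
    have h2 : i x = i p₀ := by
      rw [hp₀, ← ih_gh hsq, Scheme.Hom.comp_apply, hx, ← Scheme.Hom.comp_apply,
        show σh ≫ gh f = Spec.map (CommRingCat.ofHom (algebraMap R (Rh R))) ≫ σ from pullback.lift_fst _ _ _,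
        Scheme.Hom.comp_apply]
      exact congrArg σ (IsLocalRing.comap_closedPoint (algebraMap R (Rh R)))
    rw [← hx, i.isEmbedding.injective h2]
  have hz₀ : bh f z₀ ⤳ ih hsq p₀ := by
    rw [← hσh, show bh f z₀ = σh (Spec.map (CommRingCat.ofHom (algebraMap (Rh R) (Kb R))) (IsLocalRing.closedPoint (Kb R))) from by
      rw [← Scheme.Hom.comp_apply, ← Scheme.Hom.comp_apply, show y ≫ bh f = _ from pullback.lift_fst _ _ _]]
    exact (IsLocalRing.specializes_closedPoint _).map σh.continuous
  have hpz : ∀ z : Zb f, bh f z ⤳ ih hsq p₀ → Function.Injective (st ((Scheme.Modules.pullback (bh f)).map p) z) :=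
    fun z hz => pullback_st_injective (bh f) z p ((injective_iff_map_eq_zero _).2 fun a ha => by
      obtain ⟨u, rfl⟩ := (st_kernel p (bh f z)).1 ha
      have hsub : Subsingleton ((kernel p).presheaf.stalk (bh f z)) := not_not.1 fun hne =>
        (hz.mem_closed (Groth.L16.CohSupport.isClosed_support _ hK.2) hne :
          ih hsq p₀ ∈ CohB1.support (kernel p)) inferInstance
      rw [@Subsingleton.elim _ hsub u 0, map_zero])
  -- quasi-stability
  obtain ⟨eN⟩ := L.gen
  have hqs := quasistable_generic_fibre hgen hσ hσg hσgj eN hIg (injective_φb R) (isPullback_bb f) y (by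
    rw [← Category.assoc, show y ≫ bh f = _ from pullback.lift_fst _ _ _, Category.assoc,
      show σh ≫ gh f = _ from pullback.lift_fst _ _ _, ← Category.assoc, ← Spec.map_comp]
    rfl) (pullback.lift_snd _ _ _)
  let MΩ := (Scheme.Modules.pullback (bb f)).obj N
  let EΩ := (Scheme.Modules.pullback (bb f)).obj E
  have hEΩ : FlatMod.IsFinLocFreeOfRank r EΩ := isFinLocFreeOfRank_pullback' (bb f) hE
  have hAc : Coh.IsCoh ((Scheme.Modules.pullback (bh f)).obj F) := Groth.L16.AffineBC.isCoh_pullback (bh f) hFc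
  haveI := epi_quotZ f p
  have hMTF : TFOne.IsTF1 (Zb f) MΩ := hqs.1.1
  haveI : Coh.IsQCoh MΩ := hMTF.1.1
  obtain ⟨Z', G', π', hZ', hZF, hG', hle, hmem⟩ :=
    exists_quot_le hMTF (Kb R) hEΩ (hpure_zb hsq hpure) hAc (quotZ f p)
  have hA0 : beta (Kb R) EΩ ((Scheme.Modules.pullback (bh f)).obj F) = 0 := by
    rw [beta_bh hsq hE hFc hFf, beta_iso (IsLocalRing.ResidueField R) _ e, hG0]
  have hzZ : z₀ ∈ Z' := by
    obtain ⟨ζ, hζ, hζz⟩ := exists_genericPoint_specializes z₀
    refine hζz.mem_closed hZ' ((hmem ζ hζ).2 fun hsub => ?_)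
    obtain ⟨m, hm⟩ := exists_ne_zero hMTF hζ
    refine hm (st_injective ((Scheme.Modules.pullbackComp (bh f) (gh f)).app N).inv ζ
      ((hpz ζ ((hζz.map (bh f).continuous).trans hz₀) (a₂ := 0) ?_).trans (map_zero _).symm))
    rw [map_zero]
    exact @Subsingleton.elim _ hsub _ _
  by_cases hu : Z' = Set.univ
  · -- then the quotient is everything
    haveI : Mono (quotZ f p) := by
      refine Preadditive.mono_of_kernel_zero (hom_eq_zero hMTF.2.1 _ fun ζ hζ u => ?_)
      by_contra hne
      refine (hmem ζ hζ).1 (hu ▸ trivial) (subsingleton_of_forall_eq 0 fun v => ?_)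
      obtain ⟨m', rfl⟩ := st_surjective (quotZ f p) ζ v
      obtain ⟨c, rfl⟩ := exists_smul_eq hMTF hζ hne m'
      rw [map_smul]
      exact (congrArg (fun v : ((Scheme.Modules.pullback (bh f)).obj F).presheaf.stalk ζ => c • v)
        (stalk_comp_eq_zero (kernel.condition (quotZ f p)) ζ u)).trans (smul_zero c)
    haveI : Mono ((Scheme.Modules.pullback (bh f)).map p) := by
      have : (Scheme.Modules.pullback (bh f)).map p =
          ((Scheme.Modules.pullbackComp (bh f) (gh f)).app N).hom ≫ quotZ f p := by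
        show _ = _ ≫ _ ≫ _
        rw [Iso.hom_inv_id_assoc]
      rw [this]
      infer_instance
    have hKf : FlatMod.IsFlatOver (fh f) (kernel p) := isFlatOver_of_injective (fh f) hϖ fun z a b h => by
      refine st_injective (kernel.ι p) z (tGerm_smul_injective (fh f) hϖ (isFlatOver_gh f L.flat) z ?_)
      exact (map_smul (st (kernel.ι p) z) _ a).symm.trans
        ((congrArg (st (kernel.ι p) z) h).trans (map_smul (st (kernel.ι p) z) _ b))
    have hK0 : IsZero ((Scheme.Modules.pullback (bh f)).obj (kernel p)) := by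
      rw [Groth.L21.Mod.isZero_iff_stalk_subsingleton]
      refine fun z => subsingleton_of_forall_eq 0 fun v => ?_
      refine pullback_st_injective (bh f) z (kernel.ι p) (st_injective (kernel.ι p) (bh f z)) ?_
      refine st_injective ((Scheme.Modules.pullback (bh f)).map p) z ?_
      haveI : (Scheme.Modules.pullback (bh f)).Additive :=
        (Scheme.Modules.pullbackPushforwardAdjunction (bh f)).left_adjoint_additive
      rw [map_zero, map_zero, ← st_comp, ← Functor.map_comp, kernel.condition, Functor.map_zero]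
      exact st_zero z v
    have hKz : IsZero (kernel p) := by_contra fun h => not_isZero_bh hKf h hK0
    haveI : Mono p := Preadditive.mono_of_isZero_kernel p hKz
    haveI : IsIso p := isIso_of_mono_of_epi p
    have hπ : π = (isoT hsq N).inv ≫ (Scheme.Modules.pullback (ih hsq)).map p ≫ e.hom := by
      rw [he, Iso.inv_hom_id_assoc]
    haveI : IsIso π := by rw [hπ]; infer_instance
    refine hYu (hG.2.2.2.symm.trans ?_)
    rw [← (isQuotOn_self L.tf).2.2.2]
    ext z
    refine not_congr ⟨fun h => ?_, fun h => ?_⟩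
    · exact @Function.Injective.subsingleton _ _ _ (st_injective π z) h
    · exact @Function.Surjective.subsingleton _ _ _ h (st_surjective π z)
  · have h := hqs.2 Z' hZ' (hZF.isSubcurve hZ' ⟨z₀, hzZ⟩) hu hzZ G' π' hG'
    have h2 := rBeta_eq (Kb R) hEΩ (hpure_zb hsq hpure) hMTF hZ' hG'
    have h3 : 0 < beta (Kb R) EΩ G' := h.trans_eq h2
    omega

end Groth.L15.TFCurve
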