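import Groth.Agent.L15.TFCurve.Red.Generic

/-!
# Semistable reduction: a semistable lattice exists
-/

set_option autoImplicit false
set_option linter.style.haveILetI false
set_option backward.isDefEq.respectTransparency false
set_option backward.isDefEq.respectTransparency.types false

universe u

open CategoryTheory CategoryTheory.Limits AlgebraicGeometry TopologicalSpace

noncomputable section

namespace Groth.L15.TFCurve

open BC

variable {Z : Scheme.{u}}

/-- `Y` is a largest subcurve among those minimising `b`, with value `m`. -/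
def MaxMin (b : Set Z → ℤ) (Y : Set Z) (m : ℤ) : Prop :=
  VecSt.IsSubcurve Z Y ∧ b Y = m ∧
    ∀ T, VecSt.IsSubcurve Z T → m ≤ b T ∧ (b T = m → (gens T).ncard ≤ (gens Y).ncard)

theorem exists_maxMin [AlgebraicGeometry.IsNoetherian Z] (b : Set Z → ℤ) {T₀ : Set Z} (hT₀ : VecSt.IsSubcurve Z T₀) :
    ∃ Y m, MaxMin b Y m := by
  obtain ⟨A, hA, hAmin⟩ := Set.exists_min_image _ b (finite_subcurves (X := Z)) ⟨T₀, hT₀⟩
  obtain ⟨Y, ⟨hY, hYb⟩, hYmax⟩ := Set.exists_max_image {T | VecSt.IsSubcurve Z T ∧ b T = b A}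
    (fun T => (gens T).ncard) ((finite_subcurves (X := Z)).subset fun T h => h.1) ⟨A, hA, rfl⟩
  exact ⟨Y, b A, hY, hYb, fun T hT => ⟨hAmin T hT, fun h => hYmax T ⟨hT, h⟩⟩⟩

variable {R : Type u} [CommRing R] [IsDomain R] [IsDiscreteValuationRing R] {X : Scheme.{u}}
  {f : X ⟶ Spec (CommRingCat.of R)} [IsProper f] [Flat f]
  {Xs : Scheme.{u}} [Xs.Over (Spec (CommRingCat.of (IsLocalRing.ResidueField R)))] {i : Xs ⟶ X}
  (hsq : IsPullback i (Xs ↘ Spec (CommRingCat.of (IsLocalRing.ResidueField R))) f
    (Spec.map (CommRingCat.ofHom (IsLocalRing.residue R))))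
  [IsReduced Xs] (hpure : ∀ C ∈ irreducibleComponents (Xs : Type u), topologicalKrullDim C = 1)
  (hgi : GICmp (IsLocalRing.ResidueField R) (Xs ↘ Spec (CommRingCat.of (IsLocalRing.ResidueField R))))
  {Xg : Scheme.{u}} {qg : Xg ⟶ Spec (CommRingCat.of (FractionRing R))} {j : Xg ⟶ X}
  (hgen : IsPullback j qg f (Spec.map (CommRingCat.ofHom (algebraMap R (FractionRing R)))))
  {E : X.Modules} {r : ℕ} (hr : 0 < r) (hE : FlatMod.IsFinLocFreeOfRank r E) {d : ℤ}
  (hEd : Curv2.deg (IsLocalRing.ResidueField R) Xs ((Scheme.Modules.pullback i).obj E) r = -(r : ℤ) * d)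
  {I : X.Modules}

variable (R i E) in
/-- The invariant of the quotient on a subset of the special fibre. -/
def bS (N : X.Modules) (T : Set Xs) : ℤ :=
  qf (beta (IsLocalRing.ResidueField R) ((Scheme.Modules.pullback i).obj E)) ((Scheme.Modules.pullback i).obj N) T

include hsq in
omit [Flat f] in
theorem bS_eq {N : X.Modules} (L : Lat f i j d I N) {T : Set Xs} {G : Xs.Modules}
    {π : (Scheme.Modules.pullback i).obj N ⟶ G}
    (hG : TFOne.IsQuotOn Xs ((Scheme.Modules.pullback i).obj N) T G π) :
    bS R i E N T = beta (IsLocalRing.ResidueField R) ((Scheme.Modules.pullback i).obj E) G := by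
  haveI := isProper_special hsq
  haveI := Groth.L21.RR.isNoetherian_of_proper (X := Xs) (IsLocalRing.ResidueField R)
  exact qf_eq (fun e => beta_iso (IsLocalRing.ResidueField R) _ e) L.tf hG

include hsq hpure hE hEd in
omit [Flat f] in
/-- Semistability in terms of the invariant. -/
theorem isSemistable_iff_bS {N : X.Modules} (L : Lat f i j d I N) :
    TFOne.IsSemistable Xs (IsLocalRing.ResidueField R) (Xs ↘ Spec (CommRingCat.of (IsLocalRing.ResidueField R)))
      ((Scheme.Modules.pullback i).obj N) ((Scheme.Modules.pullback i).obj E) r ↔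
    ∀ T, VecSt.IsSubcurve Xs T → 0 ≤ bS R i E N T := by
  haveI := isProper_special hsq
  haveI := Groth.L21.RR.isNoetherian_of_proper (X := Xs) (IsLocalRing.ResidueField R)
  have hEs := isFinLocFreeOfRank_pullback' i hE
  refine ⟨fun h T hT => ?_, fun h => ⟨L.tf, fun T hT hTs _ G π hG => ?_⟩⟩
  · obtain ⟨G, π, hG⟩ := exists_quot L.tf (isClosed_of_isSubcurve hT) (isFullSet_of_isSubcurve hT)
    rw [bS_eq hsq L hG]
    exact nonneg_of_isSemistable hpure hEs h (L.beta_eq_zero hsq hpure hE hEd) (isClosed_of_isSubcurve hT) hT hG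
  · rw [rBeta_eq (IsLocalRing.ResidueField R) hEs hpure L.tf hT hG, ← bS_eq hsq L hG]
    exact h T hTs

include hsq hpure hE in
omit [Flat f] in
/-- A modification by a largest minimiser. -/
theorem step_maxMin {N : X.Modules} (L : Lat f i j d I N) {Y : Set Xs} {m : ℤ} (hm : m < 0)
    (hY : MaxMin (bS R i E N) Y m) {G : Xs.Modules} {π : (Scheme.Modules.pullback i).obj N ⟶ G}
    (hG : TFOne.IsQuotOn Xs ((Scheme.Modules.pullback i).obj N) Y G π) (L' : Lat f i j d I (md i π))
    {T : Set Xs} (hT : VecSt.IsSubcurve Xs T) :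
    m ≤ bS R i E (md i π) T ∧ (bS R i E (md i π) T = m → T ⊆ Y) := by
  haveI := isProper_special hsq
  haveI := Groth.L21.RR.isNoetherian_of_proper (X := Xs) (IsLocalRing.ResidueField R)
  have hEs := isFinLocFreeOfRank_pullback' i hE
  obtain ⟨D⟩ := nonempty_modif_md hsq L.coh L.flat hG
  have hTc := isClosed_of_isSubcurve hT
  obtain ⟨GT, πT, hGT⟩ := exists_quot L'.tf hTc (isFullSet_of_isSubcurve hT)
  obtain ⟨W, hWc, -, GW, GU, πW, πU, hGW, hGU, hUs, hWs, hW0, hineq⟩ :=
    exists_inequality (IsLocalRing.ResidueField R) hEs hpure D (isClosed_of_isSubcurve hY.1) L.tf hG hTc hT hY.1 hGT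
  rw [← bS_eq hsq L' hGT, ← bS_eq hsq L hG, ← bS_eq hsq L hGW, ← bS_eq hsq L hGU, hY.2.1] at hineq
  have hU := hY.2.2 _ hUs
  have hW : m ≤ bS R i E N W := by
    by_cases hne : W.Nonempty
    · exact (hY.2.2 W (hWs hne)).1
    · rw [bS_eq hsq L hGW, hW0 hne]; omega
  refine ⟨by omega, fun h => ?_⟩
  have hUY : (gens (Y ∪ T)).ncard ≤ (gens Y).ncard := hU.2 (by omega)
  rw [eq_of_subset_of_ncard hY.1 hUs Set.subset_union_left hUY]
  exact Set.subset_union_right

include hsq hpure hgi hgen hr hE hEd in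
/-- A semistable lattice exists. -/
theorem exists_semistable (hI : Lat f i j d I I)
    (hIg : TFOne.FibSemistable qg ((Scheme.Modules.pullback j).obj I) ((Scheme.Modules.pullback j).obj E) r) :
    ∃ N, Lat f i j d I N ∧
      TFOne.IsSemistable Xs (IsLocalRing.ResidueField R) (Xs ↘ Spec (CommRingCat.of (IsLocalRing.ResidueField R)))
        ((Scheme.Modules.pullback i).obj N) ((Scheme.Modules.pullback i).obj E) r := by
  haveI := isProper_special hsq
  haveI := Groth.L21.RR.isNoetherian_of_proper (X := Xs) (IsLocalRing.ResidueField R)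
  let k := IsLocalRing.ResidueField R
  have hEs := isFinLocFreeOfRank_pullback' i hE
  by_contra hno
  push Not at hno
  -- every lattice has a largest minimiser with negative value
  have hex : ∀ N, Lat f i j d I N → ∃ Y m, m < 0 ∧ MaxMin (bS R i E N) Y m := by
    intro N L
    have h := hno N L
    rw [isSemistable_iff_bS hsq hpure hE hEd L] at h
    push Not at h
    obtain ⟨T, hT, hTneg⟩ := h
    obtain ⟨Y, m, hY⟩ := exists_maxMin (bS R i E N) hT
    exact ⟨Y, m, lt_of_le_of_lt (hY.2.2 T hT).1 hTneg, hY⟩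
  let n := (gens (Set.univ : Set Xs)).ncard
  have key : ∀ (t : ℕ) (N : X.Modules) (Y : Set Xs) (m : ℤ), Lat f i j d I N → m < 0 → MaxMin (bS R i E N) Y m →
      (-m).toNat * (n + 1) + (gens Y).ncard < t → False := by
    intro t
    induction t with
    | zero => intros; omega
    | succ t ih =>
      intro N Y m L hm hY ht
      -- the states reached with the same extremal data
      let P : X.Modules → Prop := fun N => Lat f i j d I N ∧ MaxMin (bS R i E N) Y m
      have hYc := isClosed_of_isSubcurve hY.1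
      have hYF := isFullSet_of_isSubcurve hY.1
      let Y' := ⋃₀ {C | C ∈ irreducibleComponents (Xs : Type u) ∧ ¬ C ⊆ Y}
      have hsub : {C | C ∈ irreducibleComponents (Xs : Type u) ∧ ¬ C ⊆ Y} ⊆ irreducibleComponents (Xs : Type u) :=
        fun C hC => hC.1
      have hq : ∀ s : {N // P N}, ∃ (G G' : Xs.Modules) (π : (Scheme.Modules.pullback i).obj s.1 ⟶ G)
          (π' : (Scheme.Modules.pullback i).obj s.1 ⟶ G'),
          TFOne.IsQuotOn Xs ((Scheme.Modules.pullback i).obj s.1) Y G π ∧
          TFOne.IsQuotOn Xs ((Scheme.Modules.pullback i).obj s.1) Y' G' π' := fun s => by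
        obtain ⟨G, π, hG⟩ := exists_quot s.2.1.tf hYc hYF
        obtain ⟨G', π', hG'⟩ := exists_quot s.2.1.tf (isClosed_sUnion_components hsub) (isFullSet_sUnion hsub)
        exact ⟨G, G', π, π', hG, hG'⟩
      choose G G' π π' hG hG' using hq
      have hstep : ∀ s : {N // P N}, P (md i (π s)) := fun s => by
        have L' := s.2.1.md hsq hgen (hG s)
        obtain ⟨Y₁, m₁, hm₁, hY₁⟩ := hex _ L'
        obtain ⟨h1, h2⟩ := step_maxMin hsq hpure hE s.2.1 hm s.2.2 (hG s) L' hY₁.1
        rw [hY₁.2.1] at h1 h2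
        have hn : (gens Y₁).ncard ≤ n := ncard_gens_mono (Set.subset_univ Y₁)
        rcases h1.lt_or_eq with hlt | heq
        · exfalso
          refine ih _ Y₁ m₁ L' hm₁ hY₁ ?_
          have hle : (-m₁).toNat + 1 ≤ (-m).toNat := by omega
          have := Nat.mul_le_mul_right (n + 1) hle
          rw [add_mul, one_mul] at this
          omega
        · have hsubY := h2 heq.symm
          refine ⟨L', ?_⟩
          by_cases hc : (gens Y₁).ncard < (gens Y).ncard
          · exfalso
            refine ih _ Y₁ m₁ L' hm₁ hY₁ ?_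
            rw [← heq]
            omega
          · rw [eq_of_subset_of_ncard hY₁.1 hY.1 hsubY (not_lt.1 hc)] at hY₁
            rwa [← heq] at hY₁
      let next : {N // P N} → {N // P N} := fun s => ⟨md i (π s), hstep s⟩
      have hdec : ∀ s, IsIso (biprod.lift (π (next s)) (π' (next s))) := fun s => by
        obtain ⟨D⟩ := nonempty_modif_md hsq s.2.1.coh s.2.1.flat (hG s)
        refine (beta_eq_iff_isIso k hEs hpure D hYc s.2.1.tf (hG s) hr rfl (hG (next s)) (hG' (next s))).1 ?_
        rw [← bS_eq hsq (next s).2.1 (hG (next s)), ← bS_eq hsq s.2.1 (hG s), (next s).2.2.2.1, s.2.2.2.1]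
      let seq : ℕ → {N // P N} := fun a => next^[a] (next ⟨N, L, hY⟩)
      have hseq : ∀ a, seq (a + 1) = next (seq a) := fun a => Function.iterate_succ_apply' next a _
      have hdec' : ∀ a, IsIso (biprod.lift (π (seq a)) (π' (seq a))) := fun a => by
        cases a with
        | zero => exact hdec _
        | succ a => rw [hseq]; exact hdec _
      obtain ⟨F, p, hp, hFc, hFf, e, -⟩ := exists_quotient_over_completion hsq (fun a => (seq a).1) (seq 0).2.1.coh
        (seq 0).2.1.flat (seq 0).2.1.tf Y Y' (fun a => G (seq a)) (fun a => G' (seq a)) (fun a => π (seq a))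
        (fun a => π' (seq a)) (fun a => hG (seq a)) (fun a => hG' (seq a))
        (fun a => congrArg Subtype.val (hseq a)) hdec'
      haveI := hp
      have h := beta_special_nonneg hsq hpure hgen hE hEd hgi (seq 0).2.1 hIg hFc hFf p
      rw [beta_iso k _ e, ← bS_eq hsq (seq 0).2.1 (hG (seq 0)), (seq 0).2.2.2.1] at h
      omega
  obtain ⟨Y, m, hm, hY⟩ := hex I hI
  exact key _ I Y m hI hm hY (Nat.lt_succ_self _)

end Groth.L15.TFCurve
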