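import Groth.Agent.L15.TFCurve.Red.Decomp
import Groth.Agent.L15.TFCurve.Red.Nakayama
import Groth.Agent.L15.TFCurve.Red.Generic

/-!
# Simple reduction: a lattice with simple special fibre exists
-/

set_option autoImplicit false
set_option linter.style.haveILetI false
set_option backward.isDefEq.respectTransparency false
set_option backward.isDefEq.respectTransparency.types false

universe u

open CategoryTheory CategoryTheory.Limits AlgebraicGeometry TopologicalSpace

noncomputable section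

namespace Groth.L15.TFCurve

open BC

/-- A simple module is not the sum of two non-zero modules. -/
theorem isZero_or_isZero_of_isSimple {Z : Scheme.{u}} {k : Type u} [Field k] [Z.Over (Spec (CommRingCat.of k))]
    {M A B : Z.Modules} (hM : TFOne.IsSimple Z k (Z ↘ Spec (CommRingCat.of k)) M) (e : M ≅ A ⊞ B) :
    IsZero A ∨ IsZero B := by
  obtain ⟨-, h⟩ := isSimple_iso e.symm hM
  obtain ⟨c, hc⟩ := h (biprod.fst ≫ biprod.inl)
  by_cases hc0 : c = 0
  · refine Or.inl ((IsZero.iff_id_eq_zero A).2 ?_)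
    subst hc0
    rw [smulMod_zero] at hc
    have h1 := congrArg (fun φ => biprod.inl ≫ φ ≫ biprod.fst) hc
    simpa using h1
  · refine Or.inr ((IsZero.iff_id_eq_zero B).2 ?_)
    haveI := isIso_smulMod (k := k) (A ⊞ B) hc0
    have h1 := congrArg (fun φ => biprod.inr ≫ φ) hc
    simp only [BinaryBicone.inr_fst_assoc, zero_comp] at h1
    have h2 : (biprod.inr : B ⟶ A ⊞ B) = 0 := by
      rw [← cancel_mono (Formal.smulMod k (A ⊞ B) c), zero_comp, ← h1]
    rw [← biprod.inr_snd (X := A) (Y := B), h2, zero_comp]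

variable {R : Type u} [CommRing R] [IsDomain R] [IsDiscreteValuationRing R] {X : Scheme.{u}}
  {f : X ⟶ Spec (CommRingCat.of R)} [IsProper f]
  {Xs : Scheme.{u}} [Xs.Over (Spec (CommRingCat.of (IsLocalRing.ResidueField R)))] {i : Xs ⟶ X}
  (hsq : IsPullback i (Xs ↘ Spec (CommRingCat.of (IsLocalRing.ResidueField R))) f
    (Spec.map (CommRingCat.ofHom (IsLocalRing.residue R))))
  [IsReduced Xs] (hpure : ∀ C ∈ irreducibleComponents (Xs : Type u), topologicalKrullDim C = 1)
  (hgi : GICmp (IsLocalRing.ResidueField R) (Xs ↘ Spec (CommRingCat.of (IsLocalRing.ResidueField R))))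
  {Xg : Scheme.{u}} {qg : Xg ⟶ Spec (CommRingCat.of (FractionRing R))} {j : Xg ⟶ X}
  (hgen : IsPullback j qg f (Spec.map (CommRingCat.ofHom (algebraMap R (FractionRing R)))))
  {d : ℤ} {I : X.Modules}

include hsq hgen in
/-- Two complementary flat quotients over the completion contradict simplicity of the generic fibre. -/
theorem false_of_split_quotients (hIg : TFOne.FibSimple qg ((Scheme.Modules.pullback j).obj I))
    {N : X.Modules} (L : Lat f i j d I N) {G G' : Xs.Modules} {π : (Scheme.Modules.pullback i).obj N ⟶ G}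
    {π' : (Scheme.Modules.pullback i).obj N ⟶ G'} (hiso : IsIso (biprod.lift π π')) (hG : ¬ IsZero G)
    (hG' : ¬ IsZero G') {F F' : (Xh f).Modules} (hFc : Coh.IsCoh F) (hFc' : Coh.IsCoh F')
    (hFf : FlatMod.IsFlatOver (fh f) F) (hFf' : FlatMod.IsFlatOver (fh f) F')
    {p : (Scheme.Modules.pullback (gh f)).obj N ⟶ F} {p' : (Scheme.Modules.pullback (gh f)).obj N ⟶ F'}
    (e : (Scheme.Modules.pullback (ih hsq)).obj F ≅ G) (e' : (Scheme.Modules.pullback (ih hsq)).obj F' ≅ G')
    (he : (Scheme.Modules.pullback (ih hsq)).map p ≫ e.hom = (isoT hsq N).hom ≫ π)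
    (he' : (Scheme.Modules.pullback (ih hsq)).map p' ≫ e'.hom = (isoT hsq N).hom ≫ π') : False := by
  haveI : IsLocallyNoetherian X := LocallyOfFiniteType.isLocallyNoetherian f
  haveI : IsLocallyNoetherian (Xh f) := LocallyOfFiniteType.isLocallyNoetherian (fh f)
  haveI := isClosedImmersion_ih hsq
  letI := overH (R := R) (Xs := Xs)
  haveI := isIso_map_lift (ih hsq) p p' e e' (by
    rw [he, he', show biprod.lift ((isoT hsq N).hom ≫ π) ((isoT hsq N).hom ≫ π') =
      (isoT hsq N).hom ≫ biprod.lift π π' by apply biprod.hom_ext <;> simp]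
    haveI := hiso
    infer_instance)
  have hflat : FlatMod.IsFlatOver (fh f) (F ⊞ F') := by
    obtain ⟨ϖ, hϖ⟩ := IsDiscreteValuationRing.exists_irreducible (Rh R)
    refine isFlatOver_of_injective (fh f) hϖ fun y a b hab => ?_
    have h' : ∀ {C : (Xh f).Modules} (φ : F ⊞ F' ⟶ C), tGerm (fh f) ϖ y • st φ y a = tGerm (fh f) ϖ y • st φ y b :=
      fun φ => (map_smul _ _ a).symm.trans ((congrArg (st φ y) hab).trans (map_smul _ _ b))
    have h1 := tGerm_smul_injective (fh f) hϖ hFf y (h' biprod.fst)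
    have h2 := tGerm_smul_injective (fh f) hϖ hFf' y (h' biprod.snd)
    have ht : ∀ v : (F ⊞ F').presheaf.stalk y, v = st (biprod.inl : F ⟶ F ⊞ F') y (st biprod.fst y v) +
        st (biprod.inr : F' ⟶ F ⊞ F') y (st biprod.snd y v) := fun v => by
      simp only [st_apply]
      rw [← stalkF_map_comp, ← stalkF_map_comp, ← stalkF_map_add, biprod.total]
      exact (stalkF_map_id y v).symm
    rw [ht a, ht b, h1, h2]
  haveI := isIso_of_special (isPullback_ih hsq) (Groth.L16.AffineBC.isCoh_pullback (gh f) L.coh)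
    (Groth.L16.Devissage.isCoh_biprod hFc hFc') hflat (biprod.lift p p') inferInstance
  haveI : (Scheme.Modules.pullback (bh f)).Additive :=
    (Scheme.Modules.pullbackPushforwardAdjunction (bh f)).left_adjoint_additive
  haveI : PreservesBinaryBiproducts (Scheme.Modules.pullback (bh f)) :=
    preservesBinaryBiproducts_of_preservesBiproducts _
  letI := overB f
  obtain ⟨eN⟩ := L.gen
  obtain ⟨l, ψ, hl, -, -, ⟨el⟩⟩ := exists_generic_square hgen eN (injective_φb R) (isPullback_bb f)
  have hs : TFOne.IsSimple (Zb f) (Kb R) ((Zb f) ↘ Spec (CommRingCat.of (Kb R))) ((Scheme.Modules.pullback (bb f)).obj N) :=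
    isSimple_iso el (hIg (Kb R) (Spec.map (CommRingCat.ofHom ψ)) (Zb f) l (qb f) hl)
  haveI : Coh.IsQCoh F := hFc.1
  haveI : Coh.IsQCoh F' := hFc'.1
  haveI : (Scheme.Modules.pullback (ih hsq)).Additive :=
    (Scheme.Modules.pullbackPushforwardAdjunction (ih hsq)).left_adjoint_additive
  rcases isZero_or_isZero_of_isSimple hs (((Scheme.Modules.pullbackComp (bh f) (gh f)).app N).symm ≪≫
    (Scheme.Modules.pullback (bh f)).mapIso (asIso (biprod.lift p p')) ≪≫
    (Scheme.Modules.pullback (bh f)).mapBiprod F F') with hz | hz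
  · exact not_isZero_bh hFf (fun h => hG ((Functor.map_isZero _ h).of_iso e.symm)) hz
  · exact not_isZero_bh hFf' (fun h => hG' ((Functor.map_isZero _ h).of_iso e'.symm)) hz

include hsq hgen hpure hgi in
/-- A simple lattice exists within any class stable under modifications along decompositions. -/
theorem exists_simple [Nonempty Xs] (hIg : TFOne.FibSimple qg ((Scheme.Modules.pullback j).obj I))
    (P : X.Modules → Prop) (hP : ∀ N, P N → Lat f i j d I N)
    (hstep : ∀ N, P N → ∀ Y ∈ proper Xs, IsDec ((Scheme.Modules.pullback i).obj N) Y →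
      ∀ (G : Xs.Modules) (π : (Scheme.Modules.pullback i).obj N ⟶ G),
        TFOne.IsQuotOn Xs ((Scheme.Modules.pullback i).obj N) Y G π → P (md i π))
    (hex : ∃ N, P N) :
    ∃ N, P N ∧ TFOne.IsSimple Xs (IsLocalRing.ResidueField R)
      (Xs ↘ Spec (CommRingCat.of (IsLocalRing.ResidueField R))) ((Scheme.Modules.pullback i).obj N) := by
  classical
  haveI := isProper_special hsq
  haveI := Groth.L21.RR.isNoetherian_of_proper (X := Xs) (IsLocalRing.ResidueField R)
  by_contra hno
  push Not at hno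
  let k := IsLocalRing.ResidueField R
  let Φ : X.Modules → ℤ := fun N => potential (Curv2.euler k Xs) ((Scheme.Modules.pullback i).obj N)
  obtain ⟨Nb, hNb⟩ := exists_potential_bound (X := Xs) (k := k) hpure d
  obtain ⟨_, ⟨N₀, hN₀, rfl⟩, hmax⟩ := Int.exists_greatest_of_bdd (P := fun z => ∃ N, P N ∧ Φ N = z)
    ⟨Nb, fun z ⟨N, hN, hz⟩ => hz ▸ hNb _ (hP N hN).tf (hP N hN).euler_eq⟩
    (let ⟨N, hN⟩ := hex; ⟨Φ N, N, hN, rfl⟩)
  have tower : ∀ Y ∈ proper Xs, IsDec ((Scheme.Modules.pullback i).obj N₀) Y →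
      ∃ (G : Xs.Modules) (π : (Scheme.Modules.pullback i).obj N₀ ⟶ G) (F : (Xh f).Modules)
        (p : (Scheme.Modules.pullback (gh f)).obj N₀ ⟶ F)
        (e : (Scheme.Modules.pullback (ih hsq)).obj F ≅ G),
        TFOne.IsQuotOn Xs ((Scheme.Modules.pullback i).obj N₀) Y G π ∧ Coh.IsCoh F ∧ FlatMod.IsFlatOver (fh f) F ∧
        (Scheme.Modules.pullback (ih hsq)).map p ≫ e.hom = (isoT hsq N₀).hom ≫ π := by
    intro Y hY hdY
    let Q : X.Modules → Prop := fun N => P N ∧ Φ N = Φ N₀ ∧ IsDec ((Scheme.Modules.pullback i).obj N) Y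
    choose A B pA pB hA hB hiso using fun s : {N // Q N} => s.2.2.2
    have hnext : ∀ s : {N // Q N}, Q (md i (pA s)) := fun s => by
      obtain ⟨D⟩ := nonempty_modif_md hsq (hP _ s.2.1).coh (hP _ s.2.1).flat (hA s)
      obtain ⟨h1, h2⟩ := potential_step (k := k) hpure (hP _ s.2.1).tf hY (hA s) D s.2.2.2
      have hP' := hstep _ s.2.1 Y hY s.2.2.2 _ _ (hA s)
      have h3 : Φ s.1 ≤ Φ (md i (pA s)) := h1
      have h4 := hmax _ ⟨_, hP', rfl⟩
      have h5 := s.2.2.1
      exact ⟨hP', by omega, h2 (show Φ (md i (pA s)) = Φ s.1 by omega)⟩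
    let next : {N // Q N} → {N // Q N} := fun s => ⟨md i (pA s), hnext s⟩
    let s₀ : {N // Q N} := ⟨N₀, hN₀, rfl, hdY⟩
    let seq : ℕ → {N // Q N} := fun a => next^[a] s₀
    have hseq : ∀ a, seq (a + 1) = next (seq a) := fun a => Function.iterate_succ_apply' next a _
    obtain ⟨F, p, -, hFc, hFf, e, he⟩ := exists_quotient_over_completion hsq (fun a => (seq a).1)
      (hP _ (seq 0).2.1).coh (hP _ (seq 0).2.1).flat (hP _ (seq 0).2.1).tf Y (cpl Y) (fun a => A (seq a))
      (fun a => B (seq a)) (fun a => pA (seq a)) (fun a => pB (seq a)) (fun a => hA (seq a)) (fun a => hB (seq a))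
      (fun a => congrArg Subtype.val (hseq a)) (fun a => hiso (seq a))
    exact ⟨A s₀, pA s₀, F, p, e, hA s₀, hFc, hFf, he⟩
  obtain ⟨Y, hY, hd⟩ := exists_isDec hgi hpure (hP N₀ hN₀).tf (hno N₀ hN₀)
  obtain ⟨G, π, F, p, e, hG, hFc, hFf, he⟩ := tower Y hY hd
  obtain ⟨G', π', F', p', e', hG', hFc', hFf', he'⟩ := tower (cpl Y) (cpl_mem_proper hY) (isDec_cpl hpure hY.1 hd)
  obtain ⟨A, B, pA, pB, hA, hB, hiso⟩ := hd
  obtain ⟨eA, hAe⟩ := quot_unique (hP N₀ hN₀).tf hA hG
  obtain ⟨eB, hBe⟩ := quot_unique (hP N₀ hN₀).tf hB hG'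
  have hl : IsIso (biprod.lift π π') := by
    haveI := hiso
    haveI : IsIso (biprod.map eA.hom eB.hom) := (biprod.mapIso eA eB).isIso_hom
    rw [show biprod.lift π π' = biprod.lift pA pB ≫ biprod.map eA.hom eB.hom by
      apply biprod.hom_ext <;> simp [hAe, hBe]]
    infer_instance
  have hne : ∀ {T : Set Xs} {M A : Xs.Modules} {q : M ⟶ A}, T ∈ proper Xs → TFOne.IsQuotOn Xs M T A q → ¬ IsZero A := by
    intro T M A q hT hA hz
    obtain ⟨η, -, hη⟩ := Groth.L15.TFCurve.IsSubcurve.exists_genericPoint hT.1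
    exact (hA.2.2.2.symm ▸ hη : η ∈ CohB1.support A) ((Groth.L21.Mod.isZero_iff_stalk_subsingleton A).1 hz η)
  exact false_of_split_quotients hsq hgen hIg (hP N₀ hN₀) hl (hne hY hG) (hne (cpl_mem_proper hY) hG') hFc hFc'
    hFf hFf' e e' he he'

omit [IsReduced Xs] in
include hsq hgen in
/-- The special fibre is not empty if the generic fibre carries a simple module. -/
theorem nonempty_special (hIg : TFOne.FibSimple qg ((Scheme.Modules.pullback j).obj I)) : Nonempty Xs := by
  let Ω := AlgebraicClosure (FractionRing R)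
  let s := Spec.map (CommRingCat.ofHom (algebraMap (FractionRing R) Ω))
  have h := hIg Ω s (pullback qg s) (pullback.fst qg s) (pullback.snd qg s) (IsPullback.of_hasPullback qg s)
  obtain ⟨y⟩ : Nonempty ↥(pullback qg s) := by
    by_contra hne
    rw [not_nonempty_iff] at hne
    exact h.1 ((Groth.L21.Mod.isZero_iff_stalk_subsingleton _).2 fun y => (hne.false y).elim)
  obtain ⟨w, -, hwc⟩ := exists_mem_closedFibre f (Z := Set.univ) isClosed_univ ⟨j (pullback.fst qg s y), trivial⟩
  obtain ⟨x, -⟩ := (range_of_special hsq).ge hwc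
  exact ⟨x⟩

variable {E : X.Modules} {r : ℕ} (hE : FlatMod.IsFinLocFreeOfRank r E)
  (hEd : Curv2.deg (IsLocalRing.ResidueField R) Xs ((Scheme.Modules.pullback i).obj E) r = -(r : ℤ) * d)

include hsq hpure hgen hE hEd in
/-- Modifications along decompositions keep semistability. -/
theorem isSemistable_step {N : X.Modules} (L : Lat f i j d I N)
    (hss : TFOne.IsSemistable Xs (IsLocalRing.ResidueField R) (Xs ↘ Spec (CommRingCat.of (IsLocalRing.ResidueField R)))
      ((Scheme.Modules.pullback i).obj N) ((Scheme.Modules.pullback i).obj E) r)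
    {Y : Set Xs} (hY : Y ∈ proper Xs) (hd : IsDec ((Scheme.Modules.pullback i).obj N) Y)
    {G : Xs.Modules} {π : (Scheme.Modules.pullback i).obj N ⟶ G}
    (hG : TFOne.IsQuotOn Xs ((Scheme.Modules.pullback i).obj N) Y G π) :
    TFOne.IsSemistable Xs (IsLocalRing.ResidueField R) (Xs ↘ Spec (CommRingCat.of (IsLocalRing.ResidueField R)))
      ((Scheme.Modules.pullback i).obj (md i π)) ((Scheme.Modules.pullback i).obj E) r := by
  haveI := isProper_special hsq
  haveI := Groth.L21.RR.isNoetherian_of_proper (X := Xs) (IsLocalRing.ResidueField R)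
  let k := IsLocalRing.ResidueField R
  have hEs := isFinLocFreeOfRank_pullback' i hE
  have L' := L.md hsq hgen hG
  obtain ⟨A, B, pA, pB, hA, hB, hiso⟩ := hd
  have hM0 := L.beta_eq_zero hsq hpure hE hEd
  have hnn : ∀ (T : Set Xs) (H : Xs.Modules) (q : (Scheme.Modules.pullback i).obj N ⟶ H), IsClosed T →
      IsFullSet T → TFOne.IsQuotOn Xs ((Scheme.Modules.pullback i).obj N) T H q →
      0 ≤ beta k ((Scheme.Modules.pullback i).obj E) H := fun T H q hT _ hH => by
    haveI := hH.1
    exact beta_nonneg_of_quot hss.1 k hEs hpure hss hM0 hH.2.1 q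
  have hY0 : beta k ((Scheme.Modules.pullback i).obj E) G = 0 := by
    obtain ⟨eG, -⟩ := quot_unique L.tf hG hA
    rw [beta_iso k _ eG]
    haveI := hiso
    have hμ := isAdditive_beta (X := Xs) k hEs
    have h1 := hμ.add (ShortComplex.Splitting.ofHasBinaryBiproduct A B).shortExact hA.2.1
      (Groth.L16.Devissage.isCoh_biprod hA.2.1 hB.2.1) hB.2.1
    dsimp only at h1
    have h2 : beta k ((Scheme.Modules.pullback i).obj E) ((Scheme.Modules.pullback i).obj N) =
        beta k ((Scheme.Modules.pullback i).obj E) (A ⊞ B) := hμ.iso (asIso (biprod.lift pA pB))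
    have h3 := hnn Y A pA (isClosed_of_isSubcurve hY.1) (isFullSet_of_isSubcurve hY.1) hA
    have h4 := hnn _ B pB (isClosed_cpl Y) (isFullSet_cpl Y) hB
    have h5 : beta k ((Scheme.Modules.pullback i).obj E) ((Scheme.Modules.pullback i).obj N) = 0 := hM0
    omega
  obtain ⟨D⟩ := nonempty_modif_md hsq L.coh L.flat hG
  refine ⟨L'.tf, fun T hT hTs _ GT πT hGT => ?_⟩
  obtain ⟨W, hWc, hWeq, GW, GU, πW, πU, hGW, hGU, -, -, -, hineq⟩ :=
    exists_inequality k hEs hpure D (isClosed_of_isSubcurve hY.1) L.tf hG hT hTs hY.1 hGT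
  rw [rBeta_eq k hEs hpure L'.tf hT hGT]
  have h3 := hnn W GW πW hWc (hWeq ▸ isFullSet_sUnion fun C hC => hC.1) hGW
  have h4 := hnn _ GU πU ((isClosed_of_isSubcurve hY.1).union hT)
    ((isFullSet_of_isSubcurve hY.1).union (isFullSet_of_isSubcurve hTs)) hGU
  omega

end Groth.L15.TFCurve
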