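import Groth.Agent.L15.TFCurve.Quot
import Groth.Agent.L15.TFCurve.Limit
import Groth.Agent.L22.FiniteLength

/-!
# Lengths modulo a regular element of torsion-free rank one stalks
-/

set_option autoImplicit false
set_option linter.style.haveILetI false
set_option backward.isDefEq.respectTransparency false
set_option backward.isDefEq.respectTransparency.types false

universe u

open CategoryTheory CategoryTheory.Limits AlgebraicGeometry TopologicalSpace

noncomputable section

namespace Groth.L15.TFCurve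

open Groth.L21.Mod (stalkF)

section Algebra

variable {O : Type u} [CommRing O] {M : Type u} [AddCommGroup M] [Module O M]

/-- The length modulo a regular element only depends on the module up to finite length. -/
theorem length_quotient_eq_of_cofinite {c : O} (hcM : IsSMulRegular M c) (m : M)
    (hm : ∀ r : O, r • m = 0 → r = 0) (hfin : Module.length O (M ⧸ Submodule.span O {m}) ≠ ⊤) :
    Module.length O (M ⧸ LinearMap.range (LinearMap.lsmul O M c)) = Module.length O (O ⧸ Ideal.span {c}) := by
  let P := Submodule.span O {m}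
  let cP := Submodule.span O {c • m}
  let cM := LinearMap.range (LinearMap.lsmul O M c)
  have h1 : P ≤ cP.comap (LinearMap.lsmul O M c) := by
    rw [Submodule.span_le, Set.singleton_subset_iff]
    exact Submodule.mem_span_singleton_self _
  have h2 : cP ≤ cM := by
    rw [Submodule.span_le, Set.singleton_subset_iff]
    exact ⟨m, rfl⟩
  have h3 : cP ≤ P := by
    rw [Submodule.span_le, Set.singleton_subset_iff]
    exact P.smul_mem c (Submodule.mem_span_singleton_self m)
  have h4 : Ideal.span {c} ≤ cP.comap (LinearMap.toSpanSingleton O M m) := by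
    rw [Ideal.span_singleton_le_iff_mem]
    exact Submodule.mem_span_singleton_self _
  let f1 : M ⧸ P →ₗ[O] M ⧸ cP := P.mapQ cP (LinearMap.lsmul O M c) h1
  let g1 : M ⧸ cP →ₗ[O] M ⧸ cM := Submodule.factor h2
  let f2 : O ⧸ Ideal.span {c} →ₗ[O] M ⧸ cP := Submodule.mapQ _ cP (LinearMap.toSpanSingleton O M m) h4
  let g2 : M ⧸ cP →ₗ[O] M ⧸ P := Submodule.factor h3
  have e1 : Module.length O (M ⧸ cP) = Module.length O (M ⧸ P) + Module.length O (M ⧸ cM) := by
    refine Module.length_eq_add_of_exact f1 g1 ?_ (Submodule.factor_surjective h2) ?_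
    · rw [← LinearMap.ker_eq_bot, LinearMap.ker_eq_bot']
      rintro ⟨z⟩ hz
      obtain ⟨a, ha⟩ := Submodule.mem_span_singleton.1 ((Submodule.Quotient.mk_eq_zero _).1 hz)
      refine (Submodule.Quotient.mk_eq_zero _).2 ?_
      rw [show z = a • m from hcM (show c • z = c • (a • m) by rw [smul_comm, ha]; rfl)]
      exact P.smul_mem a (Submodule.mem_span_singleton_self m)
    · rintro ⟨z⟩
      refine ⟨fun hz => ?_, ?_⟩
      · obtain ⟨w, hw⟩ := (Submodule.Quotient.mk_eq_zero _).1 hz
        exact ⟨Submodule.Quotient.mk w, congrArg Submodule.Quotient.mk hw⟩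
      · rintro ⟨⟨w⟩, hw⟩
        rw [← hw]
        exact (Submodule.Quotient.mk_eq_zero _).2 ⟨w, rfl⟩
  have e2 : Module.length O (M ⧸ cP) = Module.length O (O ⧸ Ideal.span {c}) + Module.length O (M ⧸ P) := by
    refine Module.length_eq_add_of_exact f2 g2 ?_ (Submodule.factor_surjective h3) ?_
    · rw [← LinearMap.ker_eq_bot, LinearMap.ker_eq_bot']
      rintro ⟨z⟩ hz
      obtain ⟨a, ha⟩ := Submodule.mem_span_singleton.1 ((Submodule.Quotient.mk_eq_zero _).1 hz)
      refine (Submodule.Quotient.mk_eq_zero _).2 (Ideal.mem_span_singleton.2 ⟨a, ?_⟩)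
      refine sub_eq_zero.1 (hm _ ?_)
      rw [sub_smul, mul_comm c a, mul_smul, ha]
      exact sub_self _
    · rintro ⟨z⟩
      refine ⟨fun hz => ?_, ?_⟩
      · obtain ⟨a, ha⟩ := Submodule.mem_span_singleton.1 ((Submodule.Quotient.mk_eq_zero _).1 hz)
        exact ⟨Submodule.Quotient.mk a, congrArg Submodule.Quotient.mk ha⟩
      · rintro ⟨⟨w⟩, hw⟩
        rw [← hw]
        exact (Submodule.Quotient.mk_eq_zero _).2 (P.smul_mem w (Submodule.mem_span_singleton_self m))
  rw [e1, add_comm (Module.length O (O ⧸ _))] at e2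
  exact WithTop.add_left_cancel hfin e2

end Algebra

variable {X : Scheme.{u}}

theorem fromSpecStalk_specializes (x : X) (Q : PrimeSpectrum (X.presheaf.stalk x)) : X.fromSpecStalk x Q ⤳ x := by
  have h1 : X.fromSpecStalk x Q ∈ Set.range (X.fromSpecStalk x) := ⟨Q, rfl⟩
  rwa [Scheme.range_fromSpecStalk] at h1

/-- Elements of the stalk at a generisation are quotients of elements of the stalk. -/
theorem exists_smul_eq_specializes (G : X.Modules) [Coh.IsQCoh G] {η x : X} (h : η ⤳ x) (v : G.presheaf.stalk η) :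
    ∃ (s : X.presheaf.stalk x) (n : G.presheaf.stalk x), IsUnit (X.presheaf.stalkSpecializes h s) ∧
      (X.presheaf.stalkSpecializes h s) • v = G.presheaf.stalkSpecializes h n := by
  obtain ⟨_, ⟨V, hV, rfl⟩, hxV, -⟩ :=
    X.isBasis_affineOpens.exists_subset_of_mem_open (Set.mem_univ x) isOpen_univ
  have hηV : η ∈ V := h.mem_open V.isOpen hxV
  letI := Groth.L20.ModStalk.stalkModule G hηV
  haveI := Groth.L20.ModStalk.isLocalizedModule_germ G hV hηV
  letI := X.presheaf.algebra_section_stalk ⟨η, hηV⟩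
  haveI := hV.isLocalization_stalk ⟨η, hηV⟩
  obtain ⟨⟨n, s⟩, hns⟩ := IsLocalizedModule.surj (hV.primeIdealOf ⟨η, hηV⟩).asIdeal.primeCompl
    (Groth.L20.ModStalk.germₗ G hηV) v
  have e1 : X.presheaf.stalkSpecializes h (X.presheaf.germ V x hxV (s : Γ(X, V))) = X.presheaf.germ V η hηV s :=
    TopCat.Presheaf.germ_stalkSpecializes_apply X.presheaf hxV h _
  have e2 : G.presheaf.stalkSpecializes h (G.presheaf.germ V x hxV n) = G.presheaf.germ V η hηV n :=
    TopCat.Presheaf.germ_stalkSpecializes_apply G.presheaf hxV h _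
  refine ⟨X.presheaf.germ V x hxV s, G.presheaf.germ V x hxV n, ?_, ?_⟩
  · rw [e1]
    exact IsLocalization.map_units (X.presheaf.stalk η) s
  · rw [e1, e2]
    exact hns

/-- Elements of the local ring at a generisation are fractions. -/
theorem exists_mul_eq_specializes {η x : X} (h : η ⤳ x) (r : X.presheaf.stalk η) :
    ∃ s a : X.presheaf.stalk x, IsUnit (X.presheaf.stalkSpecializes h s) ∧
      (X.presheaf.stalkSpecializes h s) * r = X.presheaf.stalkSpecializes h a := by
  obtain ⟨_, ⟨V, hV, rfl⟩, hxV, -⟩ :=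
    X.isBasis_affineOpens.exists_subset_of_mem_open (Set.mem_univ x) isOpen_univ
  have hηV : η ∈ V := h.mem_open V.isOpen hxV
  letI := X.presheaf.algebra_section_stalk ⟨η, hηV⟩
  haveI := hV.isLocalization_stalk ⟨η, hηV⟩
  obtain ⟨⟨a, s⟩, has⟩ := IsLocalization.surj (hV.primeIdealOf ⟨η, hηV⟩).asIdeal.primeCompl r
  have e : ∀ z : Γ(X, V), X.presheaf.stalkSpecializes h (X.presheaf.germ V x hxV z) = X.presheaf.germ V η hηV z :=
    fun z => TopCat.Presheaf.germ_stalkSpecializes_apply X.presheaf hxV h _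
  refine ⟨X.presheaf.germ V x hxV s, X.presheaf.germ V x hxV a, ?_, ?_⟩
  · rw [e]
    exact IsLocalization.map_units (X.presheaf.stalk η) s
  · rw [e, e, mul_comm]
    exact has

/-- Being invertible at a generisation is avoiding the prime. -/
theorem isUnit_specializes_iff {x : X} (Q : PrimeSpectrum (X.presheaf.stalk x)) (h : X.fromSpecStalk x Q ⤳ x)
    (s : X.presheaf.stalk x) : IsUnit (X.presheaf.stalkSpecializes h s) ↔ s ∉ Q.asIdeal := by
  obtain ⟨W, hxW, a₀, rfl⟩ := TopCat.Presheaf.exists_germ_eq X.presheaf s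
  obtain ⟨V, hV, hxV, hVW'⟩ := exists_isAffineOpen_mem_and_subset (x := x) (U := W) hxW
  have hVW : V ≤ W := hVW'
  let a : Γ(X, V) := X.presheaf.map (homOfLE hVW).op a₀
  have ha : X.presheaf.germ V x hxV a = X.presheaf.germ W x hxW a₀ :=
    TopCat.Presheaf.germ_res_apply X.presheaf (homOfLE hVW) x hxV a₀
  rw [← ha, TopCat.Presheaf.germ_stalkSpecializes_apply,
    ← X.mem_basicOpen a _ (h.mem_open V.isOpen hxV)]
  have e1 : hV.fromSpec (Spec.map (X.presheaf.germ V x hxV) Q) = X.fromSpecStalk x Q := by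
    rw [← IsAffineOpen.fromSpecStalk_eq_fromSpecStalk hV hxV]
    rfl
  rw [← e1]
  show Spec.map (X.presheaf.germ V x hxV) Q ∈ hV.fromSpec ⁻¹ᵁ X.basicOpen a ↔ _
  rw [hV.fromSpec_preimage_basicOpen]
  rfl

variable [IsReduced X] [IsLocallyNoetherian X]
  (hpure : ∀ C ∈ irreducibleComponents (X : Type u), topologicalKrullDim C = 1)

include hpure in
omit [IsReduced X] in
/-- A prime of a local ring is maximal or gives a generic point. -/
theorem prime_cases {x : X} (P : PrimeSpectrum (X.presheaf.stalk x)) :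
    P.asIdeal.IsMaximal ∨ X.fromSpecStalk x P ∈ genericPoints X := by
  by_cases h : IsClosed ({X.fromSpecStalk x P} : Set X)
  · refine Or.inl ?_
    have h1 : X.fromSpecStalk x P = x := by
      have := h.closure_subset (specializes_iff_mem_closure.1 (fromSpecStalk_specializes x P))
      exact (Set.mem_singleton_iff.1 this).symm
    have h2 : P = IsLocalRing.closedPoint (X.presheaf.stalk x) :=
      (X.fromSpecStalk x).isEmbedding.injective (h1.trans Scheme.fromSpecStalk_closedPoint.symm)
    rw [h2]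
    exact IsLocalRing.maximalIdeal.isMaximal _
  · exact Or.inr (mem_genericPoints_of_not_isClosed hpure h)

omit [IsReduced X] in
theorem finite_stalk {M : X.Modules} (hM : Coh.IsCoh M) (x : X) :
    Module.Finite (X.presheaf.stalk x) (M.presheaf.stalk x) := by
  haveI : Coh.IsQCoh M := hM.1
  obtain ⟨_, ⟨V, hV, rfl⟩, hxV, -⟩ :=
    X.isBasis_affineOpens.exists_subset_of_mem_open (Set.mem_univ x) isOpen_univ
  haveI : Module.Finite Γ(X, V) Γ(M, V) := Groth.L20.ModStalk.finite_sections M hM hV
  letI := Groth.L20.ModStalk.stalkModule M hxV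
  letI := X.presheaf.algebra_section_stalk ⟨x, hxV⟩
  haveI := hV.isLocalization_stalk ⟨x, hxV⟩
  haveI : IsScalarTower Γ(X, V) (X.presheaf.stalk x) (M.presheaf.stalk x) :=
    IsScalarTower.of_algebraMap_smul fun _ _ => rfl
  haveI := Groth.L20.ModStalk.isLocalizedModule_germ M hV hxV
  exact Module.Finite.of_isLocalizedModule (Rₚ := X.presheaf.stalk x) (hV.primeIdealOf ⟨x, hxV⟩).asIdeal.primeCompl
    (Groth.L20.ModStalk.germₗ M hxV)

include hpure in
/-- Regular elements have quotients of finite length. -/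
theorem length_quotient_ne_top {x : X} {c : X.presheaf.stalk x} (hc : IsRegular c) :
    Module.length (X.presheaf.stalk x) (X.presheaf.stalk x ⧸ Ideal.span {c}) ≠ ⊤ := by
  refine ne_of_lt (Groth.L22.length_lt_top_of_support_isMaximal fun P hP => ?_)
  refine (prime_cases hpure P).resolve_right fun hη => ?_
  rw [Module.support_eq_zeroLocus, Ideal.annihilator_quotient] at hP
  have hu := stalkSpecializes_ne_zero hη (fromSpecStalk_specializes x P) hc
  letI := (isField_stalk hη).toField
  exact (isUnit_specializes_iff P _ c).1 (isUnit_iff_ne_zero.2 hu) (hP (Ideal.mem_span_singleton_self c))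

include hpure in
/-- The length modulo a regular element of a torsion-free rank one stalk. -/
theorem length_stalk_quotient {M : X.Modules} (hM : TFOne.IsTF1 X M) (x : X) {c : X.presheaf.stalk x}
    (hc : IsRegular c) :
    Module.length (X.presheaf.stalk x) (M.presheaf.stalk x ⧸ LinearMap.range (LinearMap.lsmul _ (M.presheaf.stalk x) c)) =
      Module.length (X.presheaf.stalk x) (X.presheaf.stalk x ⧸ Ideal.span {c}) := by
  haveI : Coh.IsQCoh M := hM.1.1
  haveI := hM.2.1 x
  haveI := finite_stalk hM.1 x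
  let O := X.presheaf.stalk x
  classical
  -- generic points above `x`
  have hfin : {P : PrimeSpectrum O | X.fromSpecStalk x P ∈ genericPoints X}.Finite := by
    refine ((minimalPrimes.finite_of_isNoetherianRing O).preimage
      (fun _ _ _ _ h => PrimeSpectrum.ext h)).subset fun P hP => ?_
    show P.asIdeal ∈ minimalPrimes O
    refine ⟨⟨P.2, bot_le⟩, fun Q hQ hle => ?_⟩
    let Q' : PrimeSpectrum O := ⟨Q, hQ.1⟩
    have hsp : X.fromSpecStalk x Q' ⤳ X.fromSpecStalk x P :=
      ((PrimeSpectrum.le_iff_specializes Q' P).1 hle).map (X.fromSpecStalk x).continuous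
    exact (congrArg PrimeSpectrum.asIdeal ((X.fromSpecStalk x).isEmbedding.injective (eq_of_specializes hP hsp))).ge
  let T := hfin.toFinset
  have hne : ∀ P ∈ T, ∃ n : M.presheaf.stalk x,
      M.presheaf.stalkSpecializes (fromSpecStalk_specializes x P) n ≠ 0 := fun P hP => by
    obtain ⟨v, hv⟩ := exists_ne_zero hM (hfin.mem_toFinset.1 hP)
    obtain ⟨s, n, hs, hn⟩ := exists_smul_eq_specializes M (fromSpecStalk_specializes x P) v
    exact ⟨n, fun h0 => hv (hs.smul_eq_zero.1 (hn.trans h0))⟩
  choose n hn using hne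
  have he : ∀ P ∈ T, ∃ e : O, e ∉ P.asIdeal ∧ ∀ Q ∈ T, Q ≠ P → e ∈ Q.asIdeal := fun P hP => by
    have hz : ∀ Q : {Q // Q ∈ T ∧ Q ≠ P}, ∃ a, a ∈ Q.1.asIdeal ∧ a ∉ P.asIdeal := fun ⟨Q, hQ, hQP⟩ => by
      refine SetLike.not_le_iff_exists.1 fun hle => hQP ?_
      exact (X.fromSpecStalk x).isEmbedding.injective (eq_of_specializes (hfin.mem_toFinset.1 hP)
        (((PrimeSpectrum.le_iff_specializes Q P).1 hle).map (X.fromSpecStalk x).continuous))
    choose a ha ha' using hz
    refine ⟨∏ Q : {Q // Q ∈ T.erase P}, a ⟨Q.1, (Finset.mem_erase.1 Q.2).2, (Finset.mem_erase.1 Q.2).1⟩, ?_, ?_⟩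
    · intro h
      obtain ⟨Q, -, hQ⟩ := P.2.prod_mem_iff.1 h
      exact ha' _ hQ
    · intro Q hQ hQP
      exact Ideal.prod_mem _ (Finset.mem_univ (⟨Q, Finset.mem_erase.2 ⟨hQP, hQ⟩⟩ : {Q // Q ∈ T.erase P}))
        (ha ⟨Q, hQ, hQP⟩)
  choose e he he' using he
  let m : M.presheaf.stalk x := ∑ P : {P // P ∈ T}, e P.1 P.2 • n P.1 P.2
  have hm : ∀ P ∈ T, M.presheaf.stalkSpecializes (fromSpecStalk_specializes x P) m ≠ 0 := fun P hP h0 => by
    simp only [m, map_sum, stalkSpecializes_smul] at h0
    rw [Finset.sum_eq_single (⟨P, hP⟩ : {P // P ∈ T}) ?_ (fun h => absurd (Finset.mem_univ _) h)] at h0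
    · exact hn P hP (((isUnit_specializes_iff P _ _).2 (he P hP)).smul_eq_zero.1
        ((stalkSpecializes_smul M _ _ _).symm.trans h0))
    · intro Q _ hQ
      have h1 : X.presheaf.stalkSpecializes (fromSpecStalk_specializes x P) (e Q.1 Q.2) = 0 := by
        letI := (isField_stalk (hfin.mem_toFinset.1 hP)).toField
        by_contra h1
        exact (isUnit_specializes_iff P _ _).1 (isUnit_iff_ne_zero.2 h1)
          (he' Q.1 Q.2 P hP fun h => hQ (Subtype.ext h.symm))
      refine (stalkSpecializes_smul M _ _ _).trans ?_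
      rw [h1]
      exact zero_smul _ _
  refine length_quotient_eq_of_cofinite (Module.IsTorsionFree.isSMulRegular hc) m (fun r hr => ?_) ?_
  · -- injectivity
    have hker : ∀ P : Ideal O, P ∈ minimalPrimes O → r ∈ P := fun P hP => by
      let P' : PrimeSpectrum O := ⟨P, hP.isPrime⟩
      have hgen : X.fromSpecStalk x P' ∈ genericPoints X := by
        refine mem_genericPoints_of_forall fun y hy => ?_
        obtain ⟨Q, rfl⟩ : y ∈ Set.range (X.fromSpecStalk x) := by
          rw [Scheme.range_fromSpecStalk]; exact hy.trans (fromSpecStalk_specializes x P')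
        let Q' : PrimeSpectrum O := Q
        have hle : Q'.asIdeal ≤ P := (PrimeSpectrum.le_iff_specializes Q' P').2
          ((X.fromSpecStalk x).isEmbedding.isInducing.specializes_iff.1 hy)
        have heq : Q' = P' := PrimeSpectrum.ext (le_antisymm hle (hP.2 ⟨Q'.2, bot_le⟩ hle))
        exact congrArg (X.fromSpecStalk x) heq
      by_contra hrP
      have h1 := congrArg (M.presheaf.stalkSpecializes (fromSpecStalk_specializes x P')) hr
      rw [stalkSpecializes_smul, map_zero] at h1
      exact hm P' (hfin.mem_toFinset.2 hgen) (((isUnit_specializes_iff P' _ r).2 hrP).smul_eq_zero.1 h1)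
    have hnil : r ∈ sInf (minimalPrimes O) := Ideal.mem_sInf.2 fun {P} hP => hker P hP
    rw [minimalPrimes, Ideal.sInf_minimalPrimes] at hnil
    exact IsReduced.eq_zero r hnil
  · refine ne_of_lt (Groth.L22.length_lt_top_of_support_isMaximal fun P hP => ?_)
    refine (prime_cases hpure P).resolve_right fun hη => ?_
    obtain ⟨z, hz⟩ := Module.mem_support_iff'.1 hP
    obtain ⟨z, rfl⟩ := Submodule.mkQ_surjective _ z
    obtain ⟨t, ht⟩ := exists_smul_eq hM hη (hm P (hfin.mem_toFinset.2 hη))
      (M.presheaf.stalkSpecializes (fromSpecStalk_specializes x P) z)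
    obtain ⟨s, a, hs, hsa⟩ := exists_mul_eq_specializes (fromSpecStalk_specializes x P) t
    have h0 : M.presheaf.stalkSpecializes (fromSpecStalk_specializes x P) (s • z - a • m) = 0 := by
      rw [map_sub, stalkSpecializes_smul, stalkSpecializes_smul, ← hsa, mul_smul, ht, sub_self]
    obtain ⟨w, hw, hw0⟩ := exists_smul_eq_zero M x _ P (fromSpecStalk_specializes x P) h0
    refine hz (w * s) (fun h => (P.2.mem_or_mem h).elim hw ((isUnit_specializes_iff P _ s).1 hs)) ?_
    rw [← map_smul, Submodule.mkQ_apply, Submodule.Quotient.mk_eq_zero]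
    rw [smul_sub, sub_eq_zero, ← mul_smul, ← mul_smul] at hw0
    rw [hw0]
    exact Submodule.smul_mem _ _ (Submodule.mem_span_singleton_self m)

end Groth.L15.TFCurve
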